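import Groth.Agent.RelTwistX.Exists
import Groth.Agent.GrTwistX.Triv
import Groth.Agent.GrModX.QCohTilde
import Groth.Agent.RelTildeX.Invertible
import Groth.Agent.AmpleX.Pow
import Groth.Agent.AmpleX.Rel
import Groth.Agent.AmpleX.RelAffine
import Groth.Agent.InvX.Tensor

/-!
# `O(1)` of a relative `Proj` generated in degree one is relatively ample
-/

noncomputable section

universe u

open CategoryTheory CategoryTheory.Limits AlgebraicGeometry TopologicalSpace Opposite HomogeneousLocalization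
open scoped HomogeneousIdeal

set_option backward.isDefEq.respectTransparency false
set_option backward.isDefEq.respectTransparency.types false
set_option linter.style.haveILetI false
set_option linter.unusedSectionVars false

namespace Groth.Agent.RelTwistX

open Groth.Agent

section ring

variable {A σ : Type u} [CommRing A] [SetLike σ A] [AddSubgroupClass σ A] (𝒜 : ℕ → σ) [GradedRing 𝒜]

/-- The unit fraction `a / 1` on `D₊(a)`. -/
def oneFrac {a : A} (ha : a ∈ 𝒜 1) : GrTwistX.UnitFrac (𝒜 := 𝒜) 1 (Proj.basicOpen 𝒜 a) where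
  i := 1
  j := 0
  num := a
  den := 1
  num_mem := ha
  den_mem := SetLike.GradedOne.one_mem
  deg := rfl
  num_ne x := x.2
  den_ne x h := x.1.isPrime.ne_top ((Ideal.eq_top_iff_one _).mpr h)

/-- The global section `a / 1`. -/
def sec1 {a : A} (ha : a ∈ 𝒜 1) : Γ(GrTwist.twist 𝒜 1, ⊤) := GrTwist.globalOf 𝒜 (⟨a, ha⟩ : 𝒜 1)

theorem val_sec1 {a : A} (ha : a ∈ 𝒜 1) (U : (Proj 𝒜).Opens) (x : U) :
    GrTwist.val (AModX.res (GrTwist.twist 𝒜 1) (le_top : U ≤ ⊤) (sec1 𝒜 ha)) x =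
      (Localization.mk a ⟨1, fun h => x.1.isPrime.ne_top ((Ideal.eq_top_iff_one _).mpr h)⟩ : GrTwist.Loc 𝒜 x.1) := rfl

theorem isFrame_sec1 {a : A} (ha : a ∈ 𝒜 1) :
    InvX.IsFrame (AModX.res (GrTwist.twist 𝒜 1) (le_top : Proj.basicOpen 𝒜 a ≤ ⊤) (sec1 𝒜 ha)) := fun V h => by
  have hb := GrTwistX.trivMap_bijective ((oneFrac 𝒜 ha).res (V := V) h)
  exact hb

theorem genLocus_sec1 {κ : Type*} (g : κ → A) (hg : ∀ j, g j ∈ 𝒜 1)
    (hcov : ⨆ j, Proj.basicOpen 𝒜 (g j) = ⊤) {a : A} (ha : a ∈ 𝒜 1) :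
    CohB1.genLocus (GrTwist.twist 𝒜 1) (InvX.ofSect (sec1 𝒜 ha)) = Proj.basicOpen 𝒜 a := by
  refine le_antisymm (fun x hx => ?_) (InvX.le_genLocus _ ?_)
  · obtain ⟨j, hj⟩ := Opens.mem_iSup.1 (hcov.ge (trivial : x ∈ (⊤ : (Proj 𝒜).Opens)))
    let D := Proj.basicOpen 𝒜 (g j)
    let c : Γ(Proj 𝒜, D) := (Proj.awayToSection 𝒜 (g j)).hom (Away.mk 𝒜 (hg j) 1 a (by rwa [one_smul]))
    have h1 : AModX.res (GrTwist.twist 𝒜 1) (le_top : D ≤ ⊤) (InvX.one (InvX.ofSect (sec1 𝒜 ha))) =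
        c • AModX.res (GrTwist.twist 𝒜 1) (le_top : D ≤ ⊤) (sec1 𝒜 (hg j)) := by
      rw [InvX.one_ofSect]
      refine val_ext fun y => ?_
      refine Eq.trans ?_ (GrTwist.coe_smul_val (1 : ℤ) y.1 _ _).symm
      refine (val_sec1 𝒜 ha D y).trans ?_
      show _ = (GrModX.oval 𝒜 (Proj.awayToSection 𝒜 (g j) (Away.mk 𝒜 (hg j) 1 a (by rwa [one_smul]))) y).val * _
      rw [GrModX.oval_awayToSection]
      refine Eq.trans ?_ (congrArg _ (val_sec1 𝒜 (hg j) D y)).symm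
      rw [Localization.mk_mul, Localization.mk_eq_mk_iff, Localization.r_iff_exists]
      exact ⟨1, by simp [mul_comm]⟩
    have h2 := InvX.genLocus_inf (InvX.ofSect (sec1 𝒜 ha)) (isFrame_sec1 𝒜 (hg j)) h1
    have hxc : x ∈ (Proj 𝒜).basicOpen c := h2 ▸ ⟨hx, hj⟩
    rw [show (Proj 𝒜).basicOpen c = _ from GrModX.basicOpen_awayToSection 𝒜 (hg j) 1 _] at hxc
    exact fun h => hxc (x.asHomogeneousIdeal.toIdeal.mul_mem_left _ h)
  · rw [InvX.one_ofSect]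
    exact isFrame_sec1 𝒜 ha

theorem isAmple_twist_one (s : Finset A) (hs1 : ∀ f ∈ s, f ∈ 𝒜 1)
    (hcov : ⨆ f : s, Proj.basicOpen 𝒜 (f : A) = ⊤) : CohB1.IsAmple (GrTwist.twist 𝒜 1) := by
  have hL : PicF.IsInvertible (GrTwist.twist 𝒜 1) := fun x => by
    obtain ⟨f, hf⟩ := Opens.mem_iSup.1 (hcov.ge (trivial : x ∈ (⊤ : (Proj 𝒜).Opens)))
    exact ⟨_, hf, GrTwistX.nonempty_iso_restrict _ (oneFrac 𝒜 (hs1 f f.2))⟩
  have haff : ∀ f : s, IsAffineOpen (Proj.basicOpen 𝒜 (f : A)) := fun f =>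
    Proj.isAffineOpen_basicOpen 𝒜 _ (hs1 f f.2) one_pos
  refine AmpleX.isAmple_iff.2 ⟨hL, ⟨?_⟩, fun x => ?_⟩
  · have : (Set.univ : Set (Proj 𝒜)) = ⋃ f : s, (Proj.basicOpen 𝒜 (f : A) : Set (Proj 𝒜)) := by
      rw [← Opens.coe_iSup, hcov]
      rfl
    rw [this]
    exact isCompact_iUnion fun f => (haff f).isCompact
  · obtain ⟨f, hf⟩ := Opens.mem_iSup.1 (hcov.ge (trivial : x ∈ (⊤ : (Proj 𝒜).Opens)))
    refine ⟨1, one_pos, InvX.powHom (InvX.ofSect (sec1 𝒜 (hs1 f f.2))) 1, ?_⟩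
    rw [InvX.genLocus_powHom hL _ 0, genLocus_sec1 𝒜 (fun f : s => (f : A)) (fun f => hs1 f f.2) hcov (hs1 f f.2)]
    exact ⟨hf, haff f⟩

end ring

variable {Y P : Scheme.{u}} {𝒮 : RelProj.QCGrAlg Y} {p : P ⟶ Y}
  {chart : ∀ (U : Y.Opens) (hU : IsAffineOpen U), (((p ⁻¹ᵁ U : P.Opens) : Scheme.{u}) ≅ Proj (𝒮.deg U hU))}

theorem exists_degOne_cover (hgen : 𝒮.IsGenDegOne) (hft : 𝒮.IsFTDeg 1) (U : Y.Opens) (hU : IsAffineOpen U) :
    ∃ T : Finset (𝒮.presheaf.obj (op U)), (∀ f ∈ T, f ∈ 𝒮.deg U hU 1) ∧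
      ⨆ f : T, Proj.basicOpen (𝒮.deg U hU) (f : 𝒮.presheaf.obj (op U)) = ⊤ := by
  obtain ⟨T, hT, hgenT⟩ := hft U hU
  refine ⟨T, fun f hf => hT hf, Proj.iSup_basicOpen_eq_top _ _ ?_⟩
  rw [RelTildeX.irrelevant_eq_span_deg_one hgen U hU, Ideal.span_le]
  intro x hx
  obtain ⟨c, rfl⟩ := hgenT x hx
  exact Ideal.sum_mem _ fun t ht => Ideal.mul_mem_left _ _ (Ideal.subset_span ⟨⟨t, ht⟩, rfl⟩)

/-- `O(1)` is relatively ample. -/
theorem isRelAmple_twist_one (hgen : 𝒮.IsGenDegOne) (hft : 𝒮.IsFTDeg 1) {L : P.Modules}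
    {lam : ∀ (U : Y.Opens) (hU : IsAffineOpen U),
      L ⟶ (Scheme.Modules.pushforward (RelProj.emb p chart U hU)).obj (GrTwist.twist (𝒮.deg U hU) 1)}
    (hL : RelProj.IsRelTwist 𝒮 p chart 1 L lam) [QuasiCompact p] : RelAmple.IsRelAmple p L := by
  refine AmpleX.isRelAmple_of_ampleOn fun x => ?_
  obtain ⟨_, ⟨U, hU, rfl⟩, hxU, -⟩ := Y.isBasis_affineOpens.exists_subset_of_mem_open
    (Set.mem_univ (p x)) isOpen_univ
  obtain ⟨T, hT, hcov⟩ := exists_degOne_cover hgen hft U hU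
  exact ⟨U, _, RelProj.emb p chart U hU, inferInstance, hxU, (RelTildeX.opensRange_emb p chart U hU).ge,
    AmpleX.isAmple_of_iso (RelTildeX.twistIso hL U hU).symm (isAmple_twist_one _ T hT hcov)⟩

end Groth.Agent.RelTwistX
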