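import Groth.Agent.RelTwistX.Tensor
import Groth.Agent.Proj16.RelMap
import Groth.Agent.InvX.GenLocusPull

/-!
# Inverse images of twists
-/

noncomputable section

universe u

open CategoryTheory CategoryTheory.Limits AlgebraicGeometry TopologicalSpace Opposite
open scoped HomogeneousIdeal

set_option backward.isDefEq.respectTransparency false
set_option backward.isDefEq.respectTransparency.types false
set_option linter.style.haveILetI false
set_option linter.unusedSectionVars false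

namespace Groth.Agent.RelTwistX

open Groth.Agent

/-- The inverse image of a module given by frames, from the transition functions. -/
theorem nonempty_pullback_iso {P Q : Scheme.{u}} (h : Q ⟶ P) {L : P.Modules} {M : Q.Modules} {ι : Type u}
    (U : ι → P.Opens) (hcov : ∀ x, ∃ a, x ∈ U a) (e : ∀ a, Γ(L, U a)) (he : ∀ a, InvX.IsFrame (e a))
    (e' : ∀ a, Γ(M, h ⁻¹ᵁ U a)) (he' : ∀ a, InvX.IsFrame (e' a))
    (hcond : ∀ (a b : ι) (c : Γ(P, U a ⊓ U b)),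
      AModX.res L (inf_le_right : U a ⊓ U b ≤ U b) (e b) = c • AModX.res L inf_le_left (e a) →
        AModX.res M (h.preimage_mono (inf_le_right : U a ⊓ U b ≤ U b)) (e' b) =
          h.app (U a ⊓ U b) c • AModX.res M (h.preimage_mono (inf_le_left : U a ⊓ U b ≤ U a)) (e' a)) :
    Nonempty ((Scheme.Modules.pullback h).obj L ≅ M) := by
  let F := (Scheme.Modules.pullback h).obj L
  let t : ∀ a, Γ(F, h ⁻¹ᵁ U a) := fun a => InvX.pullElt h (e a)
  have ht : ∀ a, InvX.IsFrame (t a) := fun a => InvX.isFrame_pullElt h (he a)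
  have hcov' : ∀ x : Q, ∃ a, x ∈ h ⁻¹ᵁ U a := fun x => hcov (h x)
  have hc : ∀ (a b : ι) (W : Q.Opens) (ha : W ≤ h ⁻¹ᵁ U a) (hb : W ≤ h ⁻¹ᵁ U b) (g : Γ(Q, W)),
      AModX.res F hb (t b) = g • AModX.res F ha (t a) → AModX.res M hb (e' b) = g • AModX.res M ha (e' a) := by
    intro a b W ha hb g hg
    obtain ⟨c, hc⟩ := (he a).exists_coord (inf_le_left : U a ⊓ U b ≤ U a) (AModX.res L inf_le_right (e b))
    have hW : W ≤ h ⁻¹ᵁ (U a ⊓ U b) := fun x hx => ⟨ha hx, hb hx⟩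
    have h1 := congrArg (fun q => AModX.res F hW (InvX.pullElt h q)) hc
    simp only [InvX.pullElt_smul, AModX.res_smul, ← InvX.res_pullElt] at h1
    have hg' : g = AModX.resR hW (h.app (U a ⊓ U b) c) := (ht a).coord_unique ha
      (hg.symm.trans (((AModX.res_res (M := F) _ hW (t b)).symm.trans h1).trans (congrArg _ (AModX.res_res (M := F) _ hW (t a)))))
    have h2 := congrArg (AModX.res M hW) (hcond a b c hc)
    simp only [AModX.res_smul, AModX.res_res] at h2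
    rw [hg']
    exact h2
  have hc' : ∀ (a b : ι) (W : Q.Opens) (ha : W ≤ h ⁻¹ᵁ U a) (hb : W ≤ h ⁻¹ᵁ U b) (g : Γ(Q, W)),
      AModX.res M hb (e' b) = g • AModX.res M ha (e' a) → AModX.res F hb (t b) = g • AModX.res F ha (t a) := by
    intro a b W ha hb g hg
    obtain ⟨c, hc''⟩ := (ht a).exists_coord ha (AModX.res F hb (t b))
    rwa [(he' a).coord_unique ha (hg.symm.trans (hc a b W ha hb c hc''))]
  refine ⟨⟨InvX.ofFrames hcov' ht hc, InvX.ofFrames hcov' he' hc', ?_, ?_⟩⟩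
  · refine InvX.hom_ext_of_frames _ hcov' t ht fun a => ?_
    simp [InvX.ofFrames_app]
    rfl
  · refine InvX.hom_ext_of_frames _ hcov' e' he' fun a => ?_
    simp [InvX.ofFrames_app]

variable {Y P : Scheme.{u}} {𝒮 : RelProj.QCGrAlg Y} {p : P ⟶ Y}
  {chart : ∀ (U : Y.Opens) (hU : IsAffineOpen U), (((p ⁻¹ᵁ U : P.Opens) : Scheme.{u}) ≅ Proj (𝒮.deg U hU))}
  {n : ℤ} {L : P.Modules}
  {lam' : ∀ (U : Y.Opens) (hU : IsAffineOpen U),
    L ⟶ (Scheme.Modules.pushforward (RelProj.emb p chart U hU)).obj (GrTwist.twist (𝒮.deg U hU) n)}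

/-- Frames with prescribed values, over an open lying in a chart. -/
theorem exists_frame_deg_one (hP : RelProj.IsRelProj 𝒮 p chart) (hL : RelProj.IsRelTwist 𝒮 p chart n L lam')
    {U : Y.Opens} (hU : IsAffineOpen U) {W : P.Opens} (hW : W ≤ p ⁻¹ᵁ U) {g₀ : 𝒮.presheaf.obj (op U)}
    (hg₀ : g₀ ∈ 𝒮.deg U hU 1) (hnv : GrTwistX.NonVan (𝒜 := 𝒮.deg U hU) g₀ (pre p chart U hU W)) :
    ∃ s : Γ(L, W), InvX.IsFrame s ∧
      ∀ (D : Y.Opens) (hD : IsAffineOpen D) (g : Good U D) (V : P.Opens) (hV : V ≤ W)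
        (w : pre p chart D hD V) (hw : 𝒮.res hU hD g.le g₀ ∉ w.1.asHomogeneousIdeal),
        GrTwist.val (V := pre p chart D hD V) ((lam' D hD).app V (AModX.res L hV s)) w =
          zVal w.1 (𝒮.res hU hD g.le g₀) hw n := by
  obtain ⟨s, hs, hse⟩ := exists_frame_chart hL hU hW (zFrac hg₀ n hnv)
  refine ⟨s, hs, fun D hD g V hV w hw => ?_⟩
  rw [val_chart_good hP hL hU hD g hV s w, hse]
  refine (GrTwist.locMap_mk (𝒮.res hU hD g.le) (g.irr hU hD) w.1 _ _).trans ?_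
  simp only [zFrac, zVal, map_pow]

theorem locMap_zVal {A σ : Type u} [CommRing A] [SetLike σ A] [AddSubgroupClass σ A] {𝒜 : ℕ → σ} [GradedRing 𝒜]
    {B τ : Type u} [CommRing B] [SetLike τ B] [AddSubgroupClass τ B] {ℬ : ℕ → τ} [GradedRing ℬ]
    (ψ : 𝒜 →+*ᵍ ℬ) (hψ : ℬ₊ ≤ (𝒜₊).map ψ) (y : ProjectiveSpectrum ℬ) (g : A)
    (h : g ∉ (ProjectiveSpectrum.comap ψ hψ y).asHomogeneousIdeal) (n : ℤ) :
    GrTwist.locMap ψ hψ y (zVal (ProjectiveSpectrum.comap ψ hψ y) g h n) = zVal y (ψ g) h n := by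
  refine (GrTwist.locMap_mk ψ hψ _ _ _).trans ?_
  simp only [zVal, map_pow]

theorem zVal_congr {A σ : Type u} [CommRing A] [SetLike σ A] [AddSubgroupClass σ A] {𝒜 : ℕ → σ} [GradedRing 𝒜]
    {x : ProjectiveSpectrum 𝒜} {g g' : A} (e : g = g') (h : g ∉ x.asHomogeneousIdeal)
    (h' : g' ∉ x.asHomogeneousIdeal) (n : ℤ) : zVal x g h n = zVal x g' h' n := by
  subst e
  rfl

theorem sc_res {U : Y.Opens} (hU : IsAffineOpen U) {V V' : P.Opens} (i : V' ≤ V) (c : Γ(P, V))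
    (y : pre p chart U hU V') :
    sc chart hU (AModX.resR i c) y = sc chart hU c ⟨y.1, (RelProj.emb p chart U hU).preimage_mono i y.2⟩ := by
  unfold sc
  have h := ConcreteCategory.congr_hom ((RelProj.emb p chart U hU).naturality (homOfLE i).op) c
  rw [CommRingCat.comp_apply, CommRingCat.comp_apply] at h
  rw [show AModX.resR i c = P.presheaf.map (homOfLE i).op c from rfl, h]
  rfl

section map

variable {PA PB : Scheme.{u}} {𝒜 ℬ : RelProj.QCGrAlg Y} {φ : 𝒜.toQCAlg ⟶ ℬ.toQCAlg} {hφ : RelProj.IsGradedHom φ}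
  {hirr : ∀ (U : Y.Opens) (hU : IsAffineOpen U),
    (ℬ.deg U hU)₊ ≤ ((𝒜.deg U hU)₊).map (RelProj.gradedHomAt φ hφ U hU)}
  {pA : PA ⟶ Y} {pB : PB ⟶ Y}
  {chartA : ∀ (U : Y.Opens) (hU : IsAffineOpen U), (((pA ⁻¹ᵁ U : PA.Opens) : Scheme.{u}) ≅ Proj (𝒜.deg U hU))}
  {chartB : ∀ (U : Y.Opens) (hU : IsAffineOpen U), (((pB ⁻¹ᵁ U : PB.Opens) : Scheme.{u}) ≅ Proj (ℬ.deg U hU))}
  {h : PB ⟶ PA} (hh : RelProj.IsRelProjMap φ hφ hirr chartA chartB h)

include hh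

theorem emb_comp_map (U : Y.Opens) (hU : IsAffineOpen U) :
    RelProj.emb pB chartB U hU ≫ h =
      Proj.map (RelProj.gradedHomAt φ hφ U hU) (hirr U hU) ≫ RelProj.emb pA chartA U hU := by
  rw [RelProj.emb, Category.assoc, hh U hU, Iso.inv_hom_id_assoc]
  rfl

theorem pre_le_map (U : Y.Opens) (hU : IsAffineOpen U) (W : PA.Opens) :
    (pre pB chartB U hU (h ⁻¹ᵁ W)).1 ⊆
      ProjectiveSpectrum.comap (RelProj.gradedHomAt φ hφ U hU) (hirr U hU) ⁻¹' (pre pA chartA U hU W).1 := by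
  intro w hw
  show (RelProj.emb pA chartA U hU).base (ProjectiveSpectrum.comap _ _ w) ∈ W
  have := congrArg (fun ψ : Proj (ℬ.deg U hU) ⟶ PA => ψ.base w) (emb_comp_map hh U hU)
  exact (show _ = _ from this) ▸ hw

theorem sc_map (U : Y.Opens) (hU : IsAffineOpen U) {W : PA.Opens} (c : Γ(PA, W))
    (w : pre pB chartB U hU (h ⁻¹ᵁ W)) :
    sc chartB hU (h.app W c) w =
      GrTwist.locMap (RelProj.gradedHomAt φ hφ U hU) (hirr U hU) w.1
        (sc chartA hU c ⟨_, pre_le_map hh U hU W w.2⟩) := by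
  have h1 : h.appLE W (h ⁻¹ᵁ W) le_rfl ≫
      (RelProj.emb pB chartB U hU).appLE (h ⁻¹ᵁ W) (pre pB chartB U hU (h ⁻¹ᵁ W)) le_rfl =
      (RelProj.emb pA chartA U hU).appLE W (pre pA chartA U hU W) le_rfl ≫
        (Proj.map (RelProj.gradedHomAt φ hφ U hU) (hirr U hU)).appLE (pre pA chartA U hU W)
          (pre pB chartB U hU (h ⁻¹ᵁ W)) (pre_le_map hh U hU W) := by
    rw [Scheme.Hom.appLE_comp_appLE, Scheme.Hom.appLE_comp_appLE]
    simp only [emb_comp_map hh U hU]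
  have h2 := ConcreteCategory.congr_hom h1 c
  rw [CommRingCat.comp_apply, CommRingCat.comp_apply, ← Scheme.Hom.app_eq_appLE, ← Scheme.Hom.app_eq_appLE,
    ← Scheme.Hom.app_eq_appLE] at h2
  unfold sc
  rw [h2]
  refine (congrArg HomogeneousLocalization.val (GrTwist.comapStructureSheaf_apply (RelProj.gradedHomAt φ hφ U hU)
    (hirr U hU) (pre pA chartA U hU W) (pre pB chartB U hU (h ⁻¹ᵁ W)) (pre_le_map hh U hU W) _ w)).trans ?_
  rw [HomogeneousLocalization.val_localRingHom]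
  rfl

set_option maxHeartbeats 800000 in
theorem nonempty_iso_pullback_twist (hgen : 𝒜.IsGenDegOne) (hA : RelProj.IsRelProj 𝒜 pA chartA)
    (hB : RelProj.IsRelProj ℬ pB chartB) {LA : PA.Modules}
    {lamA : ∀ (U : Y.Opens) (hU : IsAffineOpen U),
      LA ⟶ (Scheme.Modules.pushforward (RelProj.emb pA chartA U hU)).obj (GrTwist.twist (𝒜.deg U hU) n)}
    (hLA : RelProj.IsRelTwist 𝒜 pA chartA n LA lamA) {LB : PB.Modules}
    {lamB : ∀ (U : Y.Opens) (hU : IsAffineOpen U),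
      LB ⟶ (Scheme.Modules.pushforward (RelProj.emb pB chartB U hU)).obj (GrTwist.twist (ℬ.deg U hU) n)}
    (hLB : RelProj.IsRelTwist ℬ pB chartB n LB lamB) :
    Nonempty ((Scheme.Modules.pullback h).obj LA ≅ LB) := by
  have hcomp := Proj16.relProjMap_comp hA hB hh
  have hle : ∀ a : DegOne 𝒜, h ⁻¹ᵁ locD pA chartA a ≤ pB ⁻¹ᵁ a.1.1 := fun a => by
    rw [← hcomp, Scheme.Hom.comp_preimage]
    exact h.preimage_mono (locD_le a)
  have hnv : ∀ a : DegOne 𝒜, GrTwistX.NonVan (𝒜 := ℬ.deg a.1.1 a.1.2)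
      (RelProj.gradedHomAt φ hφ a.1.1 a.1.2 a.2.1) (pre pB chartB a.1.1 a.1.2 (h ⁻¹ᵁ locD pA chartA a)) :=
    fun a w hw => nonVan_locD a ⟨_, pre_le_map hh a.1.1 a.1.2 _ w.2⟩ hw
  choose eA heA hvA using exists_frame_locD hA hLA
  choose eB heB hvB using fun a : DegOne 𝒜 => exists_frame_deg_one hB hLB a.1.2 (hle a)
    ((RelProj.gradedHomAt φ hφ a.1.1 a.1.2).2 a.2.2) (hnv a)
  refine nonempty_pullback_iso h (locD pA chartA) (exists_mem_locD hgen) eA heA eB heB fun a b c hc => ?_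
  refine AModX.eq_of_locally _ _ fun x hx => ?_
  obtain ⟨D, hD, ga, gb, hxD⟩ := exists_good a.1.2 b.1.2 (x := pB x) (hle a hx.1) (hle b hx.2)
  refine ⟨h ⁻¹ᵁ (locD pA chartA a ⊓ locD pA chartA b) ⊓ pB ⁻¹ᵁ D, inf_le_left, ⟨hx, hxD⟩,
    (hLB.bijective D hD _ inf_le_right).1 (val_ext fun w => ?_)⟩
  have hres : ∀ (e : DegOne 𝒜) (g : Good e.1.1 D),
      RelProj.gradedHomAt φ hφ D hD (𝒜.res e.1.2 hD g.le e.2.1) =
        ℬ.res e.1.2 hD g.le (RelProj.gradedHomAt φ hφ e.1.1 e.1.2 e.2.1) := fun e g =>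
    congrArg (fun ψ => ψ e.2.1) (Proj16.gradedHomAt_comp_res φ hφ e.1.1 D e.1.2 hD g.le).symm
  let x' : ProjectiveSpectrum (𝒜.deg D hD) :=
    ProjectiveSpectrum.comap (RelProj.gradedHomAt φ hφ D hD) (hirr D hD) w.1
  have hx'W : x' ∈ pre pA chartA D hD (locD pA chartA a ⊓ locD pA chartA b) :=
    pre_le_map hh D hD _ w.2.1
  have hna : 𝒜.res a.1.2 hD ga.le a.2.1 ∉ x'.asHomogeneousIdeal :=
    nonVan_locD a ⟨_, pre_le hA ga a.1.2 hD (locD pA chartA a) hx'W.1⟩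
  have hnb : 𝒜.res b.1.2 hD gb.le b.2.1 ∉ x'.asHomogeneousIdeal :=
    nonVan_locD b ⟨_, pre_le hA gb b.1.2 hD (locD pA chartA b) hx'W.2⟩
  have hnaB : ℬ.res a.1.2 hD ga.le (RelProj.gradedHomAt φ hφ a.1.1 a.1.2 a.2.1) ∉ w.1.asHomogeneousIdeal :=
    hres a ga ▸ hna
  have hnbB : ℬ.res b.1.2 hD gb.le (RelProj.gradedHomAt φ hφ b.1.1 b.1.2 b.2.1) ∉ w.1.asHomogeneousIdeal :=
    hres b gb ▸ hnb
  have k := congrArg (fun q => GrTwist.val (V := pre pA chartA D hD (locD pA chartA a ⊓ locD pA chartA b))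
    ((lamA D hD).app _ q) ⟨x', hx'W⟩) hc
  simp only at k
  rw [val_smul_sc hD (lamA D hD), hvA b D hD gb _ _ ⟨x', hx'W⟩ hnb, hvA a D hD ga _ _ ⟨x', hx'W⟩ hna] at k
  have k' := congrArg (GrTwist.locMap (RelProj.gradedHomAt φ hφ D hD) (hirr D hD) w.1) k
  rw [map_mul, locMap_zVal, locMap_zVal, ← sc_map hh D hD c ⟨w.1, w.2.1⟩] at k'
  rw [AModX.res_smul, AModX.res_res, AModX.res_res, hvB b D hD gb _ _ w hnbB, val_smul_sc hD (lamB D hD),
    hvB a D hD ga _ _ w hnaB]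
  rw [sc_res hD (inf_le_left :
      h ⁻¹ᵁ (locD pA chartA a ⊓ locD pA chartA b) ⊓ pB ⁻¹ᵁ D ≤ h ⁻¹ᵁ (locD pA chartA a ⊓ locD pA chartA b)) _ w]
  exact ((zVal_congr (hres b gb) _ _ n).symm.trans k').trans (congrArg _ (zVal_congr (hres a ga) _ _ n))

end map

end Groth.Agent.RelTwistX
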