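import Groth.Agent.RelTwistX.Frame

/-!
# `O(m) ⊗ O(n) = O(m + n)` on a relative `Proj` generated in degree one
-/

noncomputable section

universe u

open CategoryTheory CategoryTheory.Limits AlgebraicGeometry TopologicalSpace Opposite
open scoped HomogeneousIdeal

set_option backward.isDefEq.respectTransparency false
set_option backward.isDefEq.respectTransparency.types false
set_option linter.style.haveILetI false
set_option linter.unusedSectionVars false

namespace Groth.Agent.RelTwistX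

open Groth.Agent

section ring

variable {A σ : Type u} [CommRing A] [SetLike σ A] [AddSubgroupClass σ A] {𝒜 : ℕ → σ} [GradedRing 𝒜]

/-- `g ^ n` for `g` of degree one, `n : ℤ`, as an invertible fraction. -/
def zFrac {U : Opens (ProjectiveSpectrum.top 𝒜)} {g : A} (hg : g ∈ 𝒜 1) (n : ℤ)
    (h : GrTwistX.NonVan (𝒜 := 𝒜) g U) : GrTwistX.UnitFrac (𝒜 := 𝒜) n U where
  i := n.toNat
  j := (-n).toNat
  num := g ^ n.toNat
  den := g ^ (-n).toNat
  num_mem := by simpa using SetLike.pow_mem_graded n.toNat hg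
  den_mem := by simpa using SetLike.pow_mem_graded (-n).toNat hg
  deg := by omega
  num_ne x := GrTwistX.notMem_pow (h x) _
  den_ne x := GrTwistX.notMem_pow (h x) _

/-- The value of `g ^ n` at a point where `g` does not vanish. -/
def zVal (x : ProjectiveSpectrum 𝒜) (g : A) (h : g ∉ x.asHomogeneousIdeal) (n : ℤ) : GrTwist.Loc 𝒜 x :=
  Localization.mk (g ^ n.toNat) ⟨g ^ (-n).toNat, GrTwistX.notMem_pow h _⟩

theorem zVal_mul (x : ProjectiveSpectrum 𝒜) (g : A) (h : g ∉ x.asHomogeneousIdeal) (m n : ℤ) :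
    zVal x g h m * zVal x g h n = zVal x g h (m + n) := by
  rw [zVal, zVal, zVal, Localization.mk_mul, Localization.mk_eq_mk_iff, Localization.r_iff_exists]
  refine ⟨1, ?_⟩
  show ((1 : x.asHomogeneousIdeal.toIdeal.primeCompl) : A) * (g ^ (-(m + n)).toNat * (g ^ m.toNat * g ^ n.toNat)) =
    ((1 : x.asHomogeneousIdeal.toIdeal.primeCompl) : A) * (g ^ (-m).toNat * g ^ (-n).toNat * g ^ (m + n).toNat)
  congr 1
  simp only [← pow_add]
  congr 1
  omega

theorem isFrame_fracSect {m : ℤ} {U : (Proj 𝒜).Opens} (φ : GrTwistX.UnitFrac (𝒜 := 𝒜) m U) :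
    InvX.IsFrame (M := GrTwist.twist 𝒜 m) (U := U) (GrTwistX.fracSect φ) :=
  fun V hV => GrTwistX.trivMap_bijective (φ.res (V := V) hV)

end ring

variable {Y P : Scheme.{u}} {𝒮 : RelProj.QCGrAlg Y} {p : P ⟶ Y}
  {chart : ∀ (U : Y.Opens) (hU : IsAffineOpen U), (((p ⁻¹ᵁ U : P.Opens) : Scheme.{u}) ≅ Proj (𝒮.deg U hU))}

/-- A degree one element over an affine open. -/
abbrev DegOne (𝒮 : RelProj.QCGrAlg Y) : Type u :=
  Σ U : Y.affineOpens, {g : 𝒮.presheaf.obj (op U.1) // g ∈ 𝒮.deg U.1 U.2 1}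

variable (p chart) in
/-- Its non-vanishing locus. -/
def locD (a : DegOne 𝒮) : P.Opens := RelProj.emb p chart a.1.1 a.1.2 ''ᵁ Proj.basicOpen (𝒮.deg a.1.1 a.1.2) a.2.1

theorem locD_le (a : DegOne 𝒮) : locD p chart a ≤ p ⁻¹ᵁ a.1.1 :=
  (Scheme.Hom.image_le_opensRange _ _).trans (RelTildeX.opensRange_emb p chart _ _).le

theorem nonVan_locD (a : DegOne 𝒮) :
    GrTwistX.NonVan (𝒜 := 𝒮.deg a.1.1 a.1.2) a.2.1 (pre p chart a.1.1 a.1.2 (locD p chart a)) := fun y => by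
  obtain ⟨z, hz, e⟩ := y.2
  rw [← (RelProj.emb p chart a.1.1 a.1.2).isOpenEmbedding.injective e]
  exact hz

theorem exists_mem_locD (hgen : 𝒮.IsGenDegOne) (x : P) : ∃ a : DegOne 𝒮, x ∈ locD p chart a := by
  obtain ⟨_, ⟨U, hU, rfl⟩, hxU, -⟩ := Y.isBasis_affineOpens.exists_subset_of_mem_open
    (Set.mem_univ (p x)) isOpen_univ
  have hxr : x ∈ (RelProj.emb p chart U hU).opensRange := by rw [RelTildeX.opensRange_emb]; exact hxU
  obtain ⟨y, rfl⟩ := hxr
  obtain ⟨g, hg, hgy⟩ : ∃ g ∈ 𝒮.deg U hU 1, g ∉ y.asHomogeneousIdeal := by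
    by_contra! hall
    exact y.not_irrelevant_le (show ((𝒮.deg U hU)₊).toIdeal ≤ y.asHomogeneousIdeal.toIdeal from
      RelTildeX.irrelevant_eq_span_deg_one hgen U hU ▸ Ideal.span_le.mpr hall)
  exact ⟨⟨⟨U, hU⟩, g, hg⟩, y, hgy, rfl⟩

variable {n : ℤ} {L : P.Modules}
  {lam' : ∀ (U : Y.Opens) (hU : IsAffineOpen U),
    L ⟶ (Scheme.Modules.pushforward (RelProj.emb p chart U hU)).obj (GrTwist.twist (𝒮.deg U hU) n)}

variable (chart) in
/-- The scalar by which a function acts at a point of a chart. -/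
def sc {U : Y.Opens} (hU : IsAffineOpen U) {V : P.Opens} (c : Γ(P, V)) (y : pre p chart U hU V) :
    GrTwist.Loc (𝒮.deg U hU) y.1 :=
  (((RelProj.emb p chart U hU).app V c : GrTwist.O (𝒜 := 𝒮.deg U hU) (op (pre p chart U hU V))).1 y).val

theorem sc_mul {U : Y.Opens} (hU : IsAffineOpen U) {V : P.Opens} (c c' : Γ(P, V)) (y : pre p chart U hU V) :
    sc chart hU (c * c') y = sc chart hU c y * sc chart hU c' y := by
  unfold sc
  rw [map_mul]
  exact HomogeneousLocalization.val_mul _ _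

theorem val_smul_sc {U : Y.Opens} (hU : IsAffineOpen U) (l : L ⟶ push p chart n U hU) {V : P.Opens}
    (c : Γ(P, V)) (t : Γ(L, V)) (y : pre p chart U hU V) :
    GrTwist.val (V := pre p chart U hU V) (l.app V (c • t)) y =
      sc chart hU c y * GrTwist.val (V := pre p chart U hU V) (l.app V t) y := by
  rw [Scheme.Modules.Hom.app_smul]
  exact GrTwist.coe_smul_val n y.1 _ _

variable (hP : RelProj.IsRelProj 𝒮 p chart) (hL : RelProj.IsRelTwist 𝒮 p chart n L lam')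

include hP hL

omit hP in
set_option maxHeartbeats 1000000 in
theorem exists_frame_chart {U : Y.Opens} (hU : IsAffineOpen U) {W : P.Opens} (hW : W ≤ p ⁻¹ᵁ U)
    (φ : GrTwistX.UnitFrac (𝒜 := 𝒮.deg U hU) n (pre p chart U hU W)) :
    ∃ s : Γ(L, W), InvX.IsFrame s ∧ (lam' U hU).app W s = GrTwistX.fracSect φ := by
  obtain ⟨s, hs⟩ := (hL.bijective U hU W hW).2 (GrTwistX.fracSect φ)
  refine ⟨s, fun V hV => ?_, hs⟩
  have hVU : V ≤ p ⁻¹ᵁ U := hV.trans hW
  haveI : IsIso ((RelProj.emb p chart U hU).app V) :=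
    (RelProj.emb p chart U hU).isIso_app V (by rw [RelTildeX.opensRange_emb]; exact hVU)
  have hfr : InvX.IsFrame (M := GrTwist.twist (𝒮.deg U hU) n) (U := pre p chart U hU W) ((lam' U hU).app W s) := by
    rw [hs]
    exact isFrame_fracSect φ
  have hb := (hfr (pre p chart U hU V) ((RelProj.emb p chart U hU).preimage_mono hV)).comp
    (ConcreteCategory.bijective_of_isIso (C := CommRingCat) ((RelProj.emb p chart U hU).app V))
  refine (Function.Bijective.of_comp_iff' (hL.bijective U hU V hVU) _).1 ?_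
  refine Eq.mp (congrArg Function.Bijective ?_) hb
  funext r
  show _ = (lam' U hU).app V (r • AModX.res L hV s)
  rw [Scheme.Modules.Hom.app_smul, AModX.app_res]
  rfl

theorem val_chart_good {U D : Y.Opens} (hU : IsAffineOpen U) (hD : IsAffineOpen D) (g : Good U D) {W V : P.Opens}
    (hV : V ≤ W) (s : Γ(L, W)) (w : pre p chart D hD V) :
    GrTwist.val (V := pre p chart D hD V) ((lam' D hD).app V (AModX.res L hV s)) w =
      GrTwist.locMap (𝒮.res hU hD g.le) (g.irr hU hD) w.1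
        (GrTwist.val (V := pre p chart U hU W) ((lam' U hU).app W s)
          ⟨_, (RelProj.emb p chart U hU).preimage_mono hV (pre_le hP g hU hD V w.2)⟩) := by
  rw [lam_good hP hL hU hD g V, AModX.app_res]
  rfl

theorem exists_frame_locD (a : DegOne 𝒮) :
    ∃ s : Γ(L, locD p chart a), InvX.IsFrame s ∧
      ∀ (D : Y.Opens) (hD : IsAffineOpen D) (g : Good a.1.1 D) (V : P.Opens) (hV : V ≤ locD p chart a)
        (w : pre p chart D hD V) (hw : 𝒮.res a.1.2 hD g.le a.2.1 ∉ w.1.asHomogeneousIdeal),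
        GrTwist.val (V := pre p chart D hD V) ((lam' D hD).app V (AModX.res L hV s)) w =
          zVal w.1 (𝒮.res a.1.2 hD g.le a.2.1) hw n := by
  obtain ⟨s, hs, hse⟩ := exists_frame_chart hL a.1.2 (locD_le (p := p) (chart := chart) a)
    (zFrac a.2.2 n (nonVan_locD (p := p) (chart := chart) a))
  refine ⟨s, hs, fun D hD g V hV w hw => ?_⟩
  rw [val_chart_good hP hL a.1.2 hD g hV s w, hse]
  refine (GrTwist.locMap_mk (𝒮.res a.1.2 hD g.le) (g.irr a.1.2 hD) w.1 _ _).trans ?_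
  simp only [zFrac, zVal, map_pow]

omit hP hL

section tensor

variable {m : ℤ} {L₁ L₂ L₃ : P.Modules}
  {lam₁ : ∀ (U : Y.Opens) (hU : IsAffineOpen U),
    L₁ ⟶ (Scheme.Modules.pushforward (RelProj.emb p chart U hU)).obj (GrTwist.twist (𝒮.deg U hU) m)}
  {lam₂ : ∀ (U : Y.Opens) (hU : IsAffineOpen U),
    L₂ ⟶ (Scheme.Modules.pushforward (RelProj.emb p chart U hU)).obj (GrTwist.twist (𝒮.deg U hU) n)}
  {lam₃ : ∀ (U : Y.Opens) (hU : IsAffineOpen U),
    L₃ ⟶ (Scheme.Modules.pushforward (RelProj.emb p chart U hU)).obj (GrTwist.twist (𝒮.deg U hU) (m + n))}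

include hP

theorem nonempty_tensor_iso (hgen : 𝒮.IsGenDegOne) (h₁ : RelProj.IsRelTwist 𝒮 p chart m L₁ lam₁)
    (h₂ : RelProj.IsRelTwist 𝒮 p chart n L₂ lam₂) (h₃ : RelProj.IsRelTwist 𝒮 p chart (m + n) L₃ lam₃) :
    Nonempty (CohB1.tensorMod L₁ L₂ ≅ L₃) := by
  choose e₁ he₁ hv₁ using exists_frame_locD hP h₁
  choose e₂ he₂ hv₂ using exists_frame_locD hP h₂
  choose e₃ he₃ hv₃ using exists_frame_locD hP h₃
  let t : ∀ a : DegOne 𝒮, Γ(CohB1.tensorMod L₁ L₂, locD p chart a) := fun a => InvX.tmul (e₁ a) (e₂ a)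
  have ht : ∀ a, InvX.IsFrame (t a) := fun a => InvX.isFrame_tmul (he₁ a) (he₂ a)
  have hc : ∀ (a b : DegOne 𝒮) (W : P.Opens) (ha : W ≤ locD p chart a) (hb : W ≤ locD p chart b) (g : Γ(P, W)),
      AModX.res (CohB1.tensorMod L₁ L₂) hb (t b) = g • AModX.res (CohB1.tensorMod L₁ L₂) ha (t a) →
        AModX.res L₃ hb (e₃ b) = g • AModX.res L₃ ha (e₃ a) := by
    intro a b W ha hb g hg
    obtain ⟨c₁, hc₁⟩ := (he₁ a).exists_coord ha (AModX.res L₁ hb (e₁ b))
    obtain ⟨c₂, hc₂⟩ := (he₂ a).exists_coord ha (AModX.res L₂ hb (e₂ b))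
    have hg' : g = c₁ * c₂ := (ht a).coord_unique ha (by
      rw [← hg, InvX.res_tmul, InvX.res_tmul, hc₁, hc₂, InvX.tmul_smul_left, InvX.tmul_smul_right, ← mul_smul])
    subst hg'
    refine AModX.eq_of_locally _ _ fun x hx => ?_
    obtain ⟨D, hD, ga, gb, hxD⟩ := exists_good a.1.2 b.1.2 (x := p x) (locD_le a (ha hx)) (locD_le b (hb hx))
    refine ⟨W ⊓ p ⁻¹ᵁ D, inf_le_left, ⟨hx, hxD⟩, (h₃.bijective D hD _ inf_le_right).1 (val_ext fun w => ?_)⟩
    have hnv : ∀ (c : DegOne 𝒮) (gc : Good c.1.1 D), W ≤ locD p chart c →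
        𝒮.res c.1.2 hD gc.le c.2.1 ∉ w.1.asHomogeneousIdeal := fun c gc hc h =>
      nonVan_locD c ⟨_, pre_le hP gc c.1.2 hD (locD p chart c) (hc w.2.1)⟩ h
    have hwa := hnv a ga ha
    have hwb := hnv b gb hb
    rw [AModX.res_smul, AModX.res_res, AModX.res_res]
    refine (hv₃ b D hD gb _ _ w hwb).trans ?_
    rw [val_smul_sc hD (lam₃ D hD), hv₃ a D hD ga _ _ w hwa, map_mul, sc_mul, ← zVal_mul, ← zVal_mul]
    have k₁ := congrArg (fun q => GrTwist.val (V := pre p chart D hD (W ⊓ p ⁻¹ᵁ D)) ((lam₁ D hD).app _ q) w)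
      (congrArg (AModX.res L₁ (inf_le_left : W ⊓ p ⁻¹ᵁ D ≤ W)) hc₁)
    have k₂ := congrArg (fun q => GrTwist.val (V := pre p chart D hD (W ⊓ p ⁻¹ᵁ D)) ((lam₂ D hD).app _ q) w)
      (congrArg (AModX.res L₂ (inf_le_left : W ⊓ p ⁻¹ᵁ D ≤ W)) hc₂)
    simp only [AModX.res_smul, AModX.res_res] at k₁ k₂
    rw [val_smul_sc hD (lam₁ D hD), hv₁ b D hD gb _ _ w hwb, hv₁ a D hD ga _ _ w hwa] at k₁
    rw [val_smul_sc hD (lam₂ D hD), hv₂ b D hD gb _ _ w hwb, hv₂ a D hD ga _ _ w hwa] at k₂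
    rw [k₁, k₂]
    ring
  have hc' : ∀ (a b : DegOne 𝒮) (W : P.Opens) (ha : W ≤ locD p chart a) (hb : W ≤ locD p chart b) (g : Γ(P, W)),
      AModX.res L₃ hb (e₃ b) = g • AModX.res L₃ ha (e₃ a) →
        AModX.res (CohB1.tensorMod L₁ L₂) hb (t b) = g • AModX.res (CohB1.tensorMod L₁ L₂) ha (t a) := by
    intro a b W ha hb g hg
    obtain ⟨c, hc''⟩ := (ht a).exists_coord ha (AModX.res (CohB1.tensorMod L₁ L₂) hb (t b))
    rwa [(he₃ a).coord_unique ha (hg.symm.trans (hc a b W ha hb c hc''))]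
  have hcov := exists_mem_locD (p := p) (chart := chart) hgen
  refine ⟨⟨InvX.ofFrames hcov ht hc, InvX.ofFrames hcov he₃ hc', ?_, ?_⟩⟩
  · refine InvX.hom_ext_of_frames _ hcov t ht fun a => ?_
    simp [InvX.ofFrames_app]
  · refine InvX.hom_ext_of_frames _ hcov e₃ he₃ fun a => ?_
    simp [InvX.ofFrames_app]

end tensor

end Groth.Agent.RelTwistX
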