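import Groth.Agent.RelTwistX.Ample
import Groth.Agent.AmpleX.Comp
import Groth.Agent.ProjLoc.Basic

/-!
# Projective morphisms are quasi-projective and proper
-/

universe u

open CategoryTheory CategoryTheory.Limits AlgebraicGeometry TopologicalSpace

set_option backward.isDefEq.respectTransparency false

namespace Groth.Agent.RelTwistX

theorem isQuasiProjective_of_isProjective {X Y : Scheme.{u}} {f : X ⟶ Y} (hf : RelProj.IsProjective f) :
    RelProj.IsQuasiProjective f := by
  haveI := ProjLoc.isProper_of_isProjective hf
  obtain ⟨𝒮, P, p, chart, e, hgen, hft, hP, he⟩ := hf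
  haveI : IsProper p := by
    have : p = e.inv ≫ f := by rw [← he, Iso.inv_hom_id_assoc]
    rw [this]; infer_instance
  have h := isRelAmple_twist_one (p := p) hgen hft (isRelTwist hP (n := 1))
  refine ⟨inferInstance, inferInstance, (Scheme.Modules.pullback e.hom).obj (twist hP 1), ?_⟩
  rw [← he]
  exact AmpleX.isRelAmple_pullback_embedding p e.hom e.hom.isOpenEmbedding.isEmbedding h

end Groth.Agent.RelTwistX
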