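import Groth.Prelude.Def_GrTwist

/-!
# The twisting sheaves under a localization at a degree zero element
-/

universe u

open CategoryTheory AlgebraicGeometry TopologicalSpace Opposite TopCat
open scoped HomogeneousIdeal

set_option backward.isDefEq.respectTransparency false
set_option backward.isDefEq.respectTransparency.types false
set_option linter.style.haveILetI false
set_option linter.unusedSectionVars false

namespace Groth.Agent.RelTwistX

variable {A σ : Type u} [CommRing A] [SetLike σ A] [AddSubgroupClass σ A] {𝒜 : ℕ → σ} [GradedRing 𝒜]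
  {B τ : Type u} [CommRing B] [SetLike τ B] [AddSubgroupClass τ B] {ℬ : ℕ → τ} [GradedRing ℬ]

/-- Sections of the twist are determined by their values. -/
theorem val_ext {n : ℤ} {U : (Proj 𝒜).Opens} {s t : Γ(GrTwist.twist 𝒜 n, U)}
    (h : ∀ x : U, GrTwist.val s x = GrTwist.val t x) : s = t :=
  Subtype.ext (funext fun x => Subtype.ext (h x))

theorem notMem_prime_mul {x : ProjectiveSpectrum 𝒜} {a b : A} (ha : a ∉ x.asHomogeneousIdeal)
    (hb : b ∉ x.asHomogeneousIdeal) : a * b ∉ x.asHomogeneousIdeal :=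
  fun h => (x.isPrime.mem_or_mem h).elim ha hb

theorem exists_val_frac {n : ℤ} {U : (Proj 𝒜).Opens} (s : Γ(GrTwist.twist 𝒜 n, U)) (x : U) :
    ∃ (U' : (Proj 𝒜).Opens) (hU' : U' ≤ U) (i j : ℕ) (a : 𝒜 i) (q : 𝒜 j)
      (hq : ∀ z : U', (q : A) ∉ z.1.asHomogeneousIdeal), x.1 ∈ U' ∧ ((i : ℤ) = j + n ∨ (a : A) = 0) ∧
      ∀ z : U', GrTwist.val s ⟨z.1, hU' z.2⟩ = Localization.mk (a : A) ⟨q, hq z⟩ := by
  obtain ⟨U', hx, e, i, j, a, q, hq, h, he⟩ := s.2 x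
  exact ⟨U', e.le, i, j, a, q, hq, hx, h, fun z => he z⟩

variable (ψ : 𝒜 →+*ᵍ ℬ) (hψ : ℬ₊ ≤ (𝒜₊).map ψ) {c : A} (hc : c ∈ 𝒜 0)
  (hloc : letI := (ψ : A →+* B).toAlgebra; IsLocalization.Away c B)

include hloc in
theorem isUnit_map : IsUnit (ψ c) := by
  letI := (ψ : A →+* B).toAlgebra
  exact IsLocalization.map_units (M := Submonoid.powers c) B ⟨c, Submonoid.mem_powers c⟩

include hloc in
theorem notMem_map (y : ProjectiveSpectrum ℬ) (k : ℕ) :
    c ^ k ∉ (ProjectiveSpectrum.comap ψ hψ y).asHomogeneousIdeal := fun h =>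
  y.isPrime.ne_top (Ideal.eq_top_of_isUnit_mem _ (show ψ (c ^ k) ∈ y.asHomogeneousIdeal.toIdeal from h)
    (by rw [map_pow]; exact (isUnit_map ψ hloc).pow k))

include hc hloc in
theorem exists_hom_preimage {i : ℕ} {b : B} (hb : b ∈ ℬ i) :
    ∃ k, ∃ a ∈ 𝒜 i, ψ a = b * ψ (c ^ k) := by
  classical
  letI := (ψ : A →+* B).toAlgebra
  obtain ⟨⟨x, s, hs⟩, hxs⟩ := IsLocalization.surj (Submonoid.powers c) b
  obtain ⟨k, rfl⟩ := (Submonoid.mem_powers_iff _ _).1 hs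
  change b * ψ (c ^ k) = ψ x at hxs
  refine ⟨k, _, SetLike.coe_mem (DirectSum.decompose 𝒜 x i), ?_⟩
  have hck : ψ (c ^ k) ∈ ℬ 0 := by
    refine ψ.map_mem ?_
    simpa using SetLike.pow_mem_graded k hc
  rw [GradedRingHom.map_directSumDecompose, ← hxs, DirectSum.decompose_of_mem_same _
    (by simpa only [add_zero] using SetLike.mul_mem_graded (A := ℬ) hb hck)]

include hloc in
theorem locMap_injective (y : ProjectiveSpectrum ℬ) : Function.Injective (GrTwist.locMap ψ hψ y) := by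
  letI := (ψ : A →+* B).toAlgebra
  refine (injective_iff_map_eq_zero _).2 fun q hq => ?_
  obtain ⟨⟨a, s⟩, rfl⟩ : ∃ p : A × (ProjectiveSpectrum.comap ψ hψ y).asHomogeneousIdeal.toIdeal.primeCompl,
      Localization.mk p.1 p.2 = q := by
    induction q using Localization.induction_on with
    | H p => exact ⟨p, rfl⟩
  rw [GrTwist.locMap_mk, Localization.mk_eq_mk', IsLocalization.mk'_eq_zero_iff] at hq
  obtain ⟨⟨t, ht⟩, h0⟩ := hq
  obtain ⟨⟨b, p, hp⟩, hbp⟩ := IsLocalization.surj (Submonoid.powers c) t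
  obtain ⟨k, rfl⟩ := (Submonoid.mem_powers_iff _ _).1 hp
  change t * ψ (c ^ k) = ψ b at hbp
  have h1 : algebraMap A B (b * a) = algebraMap A B 0 := by
    show ψ (b * a) = ψ 0
    rw [map_mul, map_zero, ← hbp, mul_right_comm, h0, zero_mul]
  obtain ⟨⟨w, hw⟩, h2⟩ := (IsLocalization.eq_iff_exists (Submonoid.powers c) B).1 h1
  obtain ⟨m, rfl⟩ := (Submonoid.mem_powers_iff _ _).1 hw
  rw [mul_zero, ← mul_assoc] at h2
  have hb : b ∉ (ProjectiveSpectrum.comap ψ hψ y).asHomogeneousIdeal := fun h => by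
    have h' : t * ψ (c ^ k) ∈ y.asHomogeneousIdeal.toIdeal := hbp ▸ h
    rcases y.isPrime.mem_or_mem h' with h3 | h3
    · exact ht h3
    · exact notMem_map ψ hψ hloc y k h3
  rw [Localization.mk_eq_mk', IsLocalization.mk'_eq_zero_iff]
  exact ⟨⟨c ^ m * b, notMem_prime_mul (notMem_map ψ hψ hloc y m) hb⟩, h2⟩

include hc hloc in
theorem exists_frac_preimage {n : ℤ} {V : (Proj ℬ).Opens} (t : Γ(GrTwist.twist ℬ n, V)) (y : V) :
    ∃ (V' : (Proj ℬ).Opens) (hV' : V' ≤ V) (i j : ℕ) (a : 𝒜 i) (q : 𝒜 j)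
      (hq : ∀ z : V', (q : A) ∉ (ProjectiveSpectrum.comap ψ hψ z.1).asHomogeneousIdeal),
      y.1 ∈ V' ∧ ((i : ℤ) = j + n ∨ (a : A) = 0) ∧
      ∀ z : V', GrTwist.val t ⟨z.1, hV' z.2⟩ = GrTwist.locMap ψ hψ z.1 (Localization.mk (a : A) ⟨q, hq z⟩) := by
  obtain ⟨V', hV', i, j, b, s, hs, hy, hd, he⟩ := exists_val_frac t y
  obtain ⟨k', a', ha', hψa'⟩ := exists_hom_preimage ψ hc hloc s.2
  obtain ⟨k, a, ha, hψa, hd'⟩ : ∃ k, ∃ a ∈ 𝒜 i, ψ a = b * ψ (c ^ k) ∧ ((i : ℤ) = j + n ∨ a = 0) := by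
    rcases hd with hd | hd
    · obtain ⟨k, a, ha, h⟩ := exists_hom_preimage ψ hc hloc b.2
      exact ⟨k, a, ha, h, Or.inl hd⟩
    · exact ⟨0, 0, zero_mem _, by rw [map_zero, hd, zero_mul], Or.inr rfl⟩
  have hck : ∀ m, c ^ m ∈ 𝒜 0 := fun m => by simpa using SetLike.pow_mem_graded m hc
  refine ⟨V', hV', i, j, ⟨a * c ^ k', by simpa using SetLike.mul_mem_graded ha (hck k')⟩,
    ⟨a' * c ^ k, by simpa using SetLike.mul_mem_graded ha' (hck k)⟩, fun z => ?_, hy, ?_, fun z => ?_⟩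
  · refine notMem_prime_mul (fun h => ?_) (notMem_map ψ hψ hloc z.1 k)
    have h' : (s : B) * ψ (c ^ k') ∈ z.1.asHomogeneousIdeal.toIdeal := hψa' ▸ h
    rcases z.1.isPrime.mem_or_mem h' with h3 | h3
    · exact hs z h3
    · exact notMem_map ψ hψ hloc z.1 k' h3
  · rcases hd' with h | h
    · exact Or.inl h
    · exact Or.inr (show a * c ^ k' = 0 by rw [h, zero_mul])
  · rw [he z, GrTwist.locMap_mk, Localization.mk_eq_mk_iff, Localization.r_iff_exists]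
    refine ⟨1, ?_⟩
    simp only [OneMemClass.coe_one, one_mul, map_mul, hψa, hψa']
    ring

theorem comapApp_smul_eq (n : ℤ) (U : Opens (ProjectiveSpectrum.top 𝒜)) (V : Opens (ProjectiveSpectrum.top ℬ))
    (hUV : V.1 ⊆ ProjectiveSpectrum.comap ψ hψ ⁻¹' U.1) (r : GrTwist.O (𝒜 := 𝒜) (op U))
    (r' : GrTwist.O (𝒜 := ℬ) (op V)) (h : Proj.comapStructureSheaf ψ hψ U V hUV r = r')
    (s : GrTwist.sectN (𝒜 := 𝒜) n (op U)) :
    GrTwist.comapApp ψ hψ n U V hUV (r • s) = r' • GrTwist.comapApp ψ hψ n U V hUV s :=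
  h ▸ GrTwist.comapApp_smul ψ hψ n U V hUV r s

theorem comapApp_injective (hinj : ∀ y, Function.Injective (GrTwist.locMap ψ hψ y)) (n : ℤ)
    (U : Opens (ProjectiveSpectrum.top 𝒜)) (V : Opens (ProjectiveSpectrum.top ℬ))
    (hUV : V.1 ⊆ ProjectiveSpectrum.comap ψ hψ ⁻¹' U.1)
    (hsurj : ∀ x ∈ U, ∃ y ∈ V, ProjectiveSpectrum.comap ψ hψ y = x) :
    Function.Injective (GrTwist.comapApp ψ hψ n U V hUV) := fun s t h => by
  refine Subtype.ext (funext fun x => Subtype.ext ?_)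
  obtain ⟨x, hx⟩ := x
  obtain ⟨y, hy, rfl⟩ := hsurj x hx
  exact hinj y (congrArg (fun r : GrTwist.sectN (𝒜 := ℬ) n (op V) => (r.1 ⟨y, hy⟩).1) h)

include hc hloc in
theorem comapApp_bijective [IsOpenImmersion (Proj.map ψ hψ)] (n : ℤ)
    (U : Opens (ProjectiveSpectrum.top 𝒜)) (V : Opens (ProjectiveSpectrum.top ℬ))
    (hUV : V.1 ⊆ ProjectiveSpectrum.comap ψ hψ ⁻¹' U.1)
    (hsurj : ∀ x ∈ U, ∃ y ∈ V, ProjectiveSpectrum.comap ψ hψ y = x) :
    Function.Bijective (GrTwist.comapApp ψ hψ n U V hUV) := by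
  refine ⟨comapApp_injective ψ hψ (locMap_injective ψ hψ hloc) n U V hUV hsurj, fun t => ?_⟩
  choose V' hV' i j a q hq hy hd he using fun y : V => exists_frac_preimage ψ hψ hc hloc (V := V) t y
  choose g hg hgx using fun x : U => hsurj x.1 x.2
  let I : U → V := fun x => ⟨g x, hg x⟩
  have hI : ∀ x : U, (q (I x) : A) ∉ x.1.asHomogeneousIdeal := fun x => by
    have h := hq (I x) ⟨g x, hy (I x)⟩
    change (q (I x) : A) ∉ (ProjectiveSpectrum.comap ψ hψ (g x)).asHomogeneousIdeal at h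
    rwa [hgx x] at h
  have hkey : ∀ (y₀ : V) (z : V' y₀) (x : U) (hzx : ProjectiveSpectrum.comap ψ hψ z.1 = x.1),
      (Localization.mk (a (I x) : A) ⟨q (I x), hI x⟩ : GrTwist.Loc 𝒜 x.1) =
        Localization.mk (a y₀ : A) ⟨q y₀, hzx ▸ hq y₀ z⟩ := by
    intro y₀ z ⟨x, hx⟩ hzx
    obtain rfl : ProjectiveSpectrum.comap ψ hψ z.1 = x := hzx
    have hgz : g ⟨_, hx⟩ = z.1 := (Proj.map ψ hψ).isOpenEmbedding.injective (hgx ⟨_, hx⟩)
    refine locMap_injective ψ hψ hloc z.1 ?_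
    have h1 := he (I ⟨_, hx⟩) ⟨z.1, (congrArg (fun w => w ∈ V' (I ⟨_, hx⟩)) hgz).mp (hy (I ⟨_, hx⟩))⟩
    have h2 := he y₀ z
    exact h1.symm.trans h2
  refine ⟨⟨fun x => ⟨Localization.mk (a (I x) : A) ⟨q (I x), hI x⟩, ?_⟩, fun x => ?_⟩, ?_⟩
  · rcases hd (I x) with h | h
    · exact Submodule.subset_span ⟨i (I x), j (I x), a (I x), q (I x), hI x, h, rfl⟩
    · rw [h, Localization.mk_zero]; exact zero_mem _
  · refine ⟨(Proj.map ψ hψ ''ᵁ V' (I x)) ⊓ U, ⟨⟨g x, hy (I x), hgx x⟩, x.2⟩, homOfLE inf_le_right,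
      i (I x), j (I x), a (I x), q (I x), ?_, hd (I x), ?_⟩
    · rintro ⟨z, ⟨w, hw, hwz⟩, hz⟩
      obtain rfl : ProjectiveSpectrum.comap ψ hψ w = z := hwz
      exact hq (I x) ⟨w, hw⟩
    · rintro ⟨z, hz'⟩
      obtain ⟨w, hw, hwz⟩ := hz'.1
      exact hkey (I x) ⟨w, hw⟩ ⟨z, hz'.2⟩ hwz
  · refine Subtype.ext (funext fun y => Subtype.ext ?_)
    rw [GrTwist.comapApp_apply_coe]
    show GrTwist.locMap ψ hψ y.1 (Localization.mk _ _) = _
    rw [hkey y ⟨y.1, hy y⟩ ⟨_, hUV y.2⟩ rfl]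
    exact (he y ⟨y.1, hy y⟩).symm

end Groth.Agent.RelTwistX
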