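import Groth.Agent.RelTwistX.Loc
import Groth.Agent.RelTildeX.Chart
import Groth.Prelude.Def_RelProj2

/-!
# The twisting sheaves of a relative `Proj`
-/

noncomputable section

universe u

open CategoryTheory CategoryTheory.Limits AlgebraicGeometry TopologicalSpace Opposite
open scoped HomogeneousIdeal

set_option backward.isDefEq.respectTransparency false
set_option backward.isDefEq.respectTransparency.types false
set_option linter.style.haveILetI false
set_option linter.unusedSectionVars false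

namespace Groth.Agent.RelTwistX

variable {Y P : Scheme.{u}} {𝒮 : RelProj.QCGrAlg Y} {p : P ⟶ Y}
  {chart : ∀ (U : Y.Opens) (hU : IsAffineOpen U), (((p ⁻¹ᵁ U : P.Opens) : Scheme.{u}) ≅ Proj (𝒮.deg U hU))}

/-- `D` is a basic open of `U`. -/
def Good (U D : Y.Opens) : Prop := ∃ r : Γ(Y, U), D = Y.basicOpen r

theorem Good.le {U D : Y.Opens} (g : Good U D) : D ≤ U := by
  obtain ⟨r, rfl⟩ := g; exact Y.basicOpen_le r

theorem Good.trans {U D D' : Y.Opens} (hU : IsAffineOpen U) (g : Good U D) (g' : Good D D') : Good U D' := by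
  obtain ⟨r, rfl⟩ := g
  obtain ⟨r', rfl⟩ := g'
  obtain ⟨f, hf⟩ := hU.basicOpen_basicOpen_is_basicOpen r r'
  exact ⟨f, hf.symm⟩

theorem exists_good {U V : Y.Opens} (hU : IsAffineOpen U) (hV : IsAffineOpen V) {x : Y} (hxU : x ∈ U) (hxV : x ∈ V) :
    ∃ (D : Y.Opens) (_ : IsAffineOpen D), Good U D ∧ Good V D ∧ x ∈ D := by
  obtain ⟨r, r', e, hx⟩ := exists_basicOpen_le_affine_inter hU hV x ⟨hxU, hxV⟩
  exact ⟨_, hU.basicOpen r, ⟨r, rfl⟩, ⟨r', e⟩, hx⟩

theorem Good.irr {U D : Y.Opens} (g : Good U D) (hU : IsAffineOpen U) (hD : IsAffineOpen D) :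
    (𝒮.deg D hD)₊ ≤ ((𝒮.deg U hU)₊).map (𝒮.res hU hD g.le) := by
  obtain ⟨r, rfl⟩ := g
  exact 𝒮.irrelevant_le_map U hU r

variable (hP : RelProj.IsRelProj 𝒮 p chart)

include hP in
theorem Good.map_emb {U D : Y.Opens} (g : Good U D) (hU : IsAffineOpen U) (hD : IsAffineOpen D) :
    Proj.map (𝒮.res hU hD g.le) (g.irr hU hD) ≫ RelProj.emb p chart U hU = RelProj.emb p chart D hD := by
  obtain ⟨r, rfl⟩ := g
  exact RelProj.map_res_emb hP U hU r

include hP in
theorem Good.isOpenImmersion {U D : Y.Opens} (g : Good U D) (hU : IsAffineOpen U) (hD : IsAffineOpen D) :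
    IsOpenImmersion (Proj.map (𝒮.res hU hD g.le) (g.irr hU hD)) := by
  haveI : IsOpenImmersion (Proj.map (𝒮.res hU hD g.le) (g.irr hU hD) ≫ RelProj.emb p chart U hU) := by
    rw [g.map_emb hP hU hD]; infer_instance
  exact IsOpenImmersion.of_comp _ (RelProj.emb p chart U hU)

include hP in
theorem Good.emb_comap {U D : Y.Opens} (g : Good U D) (hU : IsAffineOpen U) (hD : IsAffineOpen D)
    (z : ProjectiveSpectrum (𝒮.deg D hD)) :
    (RelProj.emb p chart U hU).base (ProjectiveSpectrum.comap (𝒮.res hU hD g.le) (g.irr hU hD) z) =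
      (RelProj.emb p chart D hD).base z :=
  congrArg (fun φ : Proj (𝒮.deg D hD) ⟶ P => φ.base z) (g.map_emb hP hU hD)

theorem exists_loc {U D : Y.Opens} (g : Good U D) (hU : IsAffineOpen U) (hD : IsAffineOpen D) :
    ∃ c ∈ 𝒮.deg U hU 0, letI := (𝒮.res hU hD g.le : 𝒮.presheaf.obj (op U) →+* 𝒮.presheaf.obj (op D)).toAlgebra
      IsLocalization.Away c (𝒮.presheaf.obj (op D)) := by
  obtain ⟨r, rfl⟩ := g
  exact ⟨_, 𝒮.str_mem U hU r, 𝒮.isQC U hU r⟩

theorem Good.locMap_injective {U D : Y.Opens} (g : Good U D) (hU : IsAffineOpen U) (hD : IsAffineOpen D)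
    (z : ProjectiveSpectrum (𝒮.deg D hD)) :
    Function.Injective (GrTwist.locMap (𝒮.res hU hD g.le) (g.irr hU hD) z) := by
  obtain ⟨c, -, hloc⟩ := exists_loc (𝒮 := 𝒮) g hU hD
  exact RelTwistX.locMap_injective _ _ hloc z

variable (p chart) in
/-- The preimage of an open in a chart. -/
abbrev pre (U : Y.Opens) (hU : IsAffineOpen U) (W : P.Opens) : (Proj (𝒮.deg U hU)).Opens :=
  RelProj.emb p chart U hU ⁻¹ᵁ W

variable (p chart) in
/-- The direct image of a chart twist. -/
abbrev push (n : ℤ) (U : Y.Opens) (hU : IsAffineOpen U) : P.Modules :=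
  (Scheme.Modules.pushforward (RelProj.emb p chart U hU)).obj (GrTwist.twist (𝒮.deg U hU) n)

variable (p chart) in
/-- Sections in a chart over `W`. -/
abbrev Sect (n : ℤ) (U : Y.Opens) (hU : IsAffineOpen U) (W : P.Opens) : Type u :=
  Γ(GrTwist.twist (𝒮.deg U hU) n, pre p chart U hU W)

variable {n : ℤ}

include hP in
theorem pre_le {U D : Y.Opens} (g : Good U D) (hU : IsAffineOpen U) (hD : IsAffineOpen D) (W : P.Opens) :
    (pre p chart D hD W).1 ⊆ ProjectiveSpectrum.comap (𝒮.res hU hD g.le) (g.irr hU hD) ⁻¹' (pre p chart U hU W).1 := by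
  intro z hz
  show (RelProj.emb p chart U hU).base (ProjectiveSpectrum.comap _ _ z) ∈ W
  rw [g.emb_comap hP hU hD]
  exact hz

variable (n) in
/-- Restriction from a chart to the chart of a basic open, on sections. -/
def resApp {U D : Y.Opens} (g : Good U D) (hU : IsAffineOpen U) (hD : IsAffineOpen D) (W : P.Opens) :
    Sect p chart n U hU W →+ Sect p chart n D hD W :=
  GrTwist.comapApp (𝒮.res hU hD g.le) (g.irr hU hD) n _ _ (pre_le hP g hU hD W)

theorem val_resApp {U D : Y.Opens} (g : Good U D) (hU : IsAffineOpen U) (hD : IsAffineOpen D) (W : P.Opens)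
    (t : Sect p chart n U hU W) (z : pre p chart D hD W) :
    GrTwist.val (resApp hP n g hU hD W t) z =
      GrTwist.locMap (𝒮.res hU hD g.le) (g.irr hU hD) z.1 (GrTwist.val t ⟨_, pre_le hP g hU hD W z.2⟩) := rfl

/-- Values at one point over two chart restrictions in succession. -/
theorem resApp_resApp {U D D' : Y.Opens} (g : Good U D) (g' : Good D D') (g'' : Good U D') (hU : IsAffineOpen U)
    (hD : IsAffineOpen D) (hD' : IsAffineOpen D') (W : P.Opens) (t : Sect p chart n U hU W) :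
    resApp hP n g' hD hD' W (resApp hP n g hU hD W t) = resApp hP n g'' hU hD' W t := by
  refine val_ext fun z => ?_
  have hrc : ∀ a, 𝒮.res hD hD' g'.le (𝒮.res hU hD g.le a) = 𝒮.res hU hD' g''.le a := fun a => by
    simp only [RelProj.QCGrAlg.res_apply]
    rw [← CommRingCat.comp_apply, ← Functor.map_comp]
    rfl
  obtain ⟨U', hU', i, j, a, q, hq, hx, -, he⟩ := exists_val_frac t ⟨_, pre_le hP g'' hU hD' W z.2⟩
  have hxx : ProjectiveSpectrum.comap (𝒮.res hU hD g.le) (g.irr hU hD)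
      (ProjectiveSpectrum.comap (𝒮.res hD hD' g'.le) (g'.irr hD hD') z.1) =
      ProjectiveSpectrum.comap (𝒮.res hU hD' g''.le) (g''.irr hU hD') z.1 := by
    refine (RelProj.emb p chart U hU).isOpenEmbedding.injective ?_
    rw [g.emb_comap hP hU hD, g'.emb_comap hP hD hD', g''.emb_comap hP hU hD']
  rw [val_resApp hP g', val_resApp hP g, val_resApp hP g'']
  rw [show GrTwist.val t ⟨ProjectiveSpectrum.comap (𝒮.res hU hD g.le) (g.irr hU hD)
      (ProjectiveSpectrum.comap (𝒮.res hD hD' g'.le) (g'.irr hD hD') z.1),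
        pre_le hP g hU hD W (pre_le hP g' hD hD' W z.2)⟩ = Localization.mk (a : 𝒮.presheaf.obj (op U))
      ⟨q, hq ⟨_, hxx.symm ▸ hx⟩⟩ from he ⟨_, hxx.symm ▸ hx⟩,
    show GrTwist.val t ⟨ProjectiveSpectrum.comap (𝒮.res hU hD' g''.le) (g''.irr hU hD') z.1,
        pre_le hP g'' hU hD' W z.2⟩ = Localization.mk (a : 𝒮.presheaf.obj (op U))
      ⟨q, hq ⟨_, hx⟩⟩ from he ⟨_, hx⟩]
  simp only [GrTwist.locMap_mk, hrc]

theorem resApp_bijective {U D : Y.Opens} (g : Good U D) (hU : IsAffineOpen U) (hD : IsAffineOpen D)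
    {W : P.Opens} (hW : W ≤ p ⁻¹ᵁ D) : Function.Bijective (resApp hP n g hU hD W) := by
  obtain ⟨c, hc, hloc⟩ := exists_loc (𝒮 := 𝒮) g hU hD
  haveI := g.isOpenImmersion hP hU hD
  refine comapApp_bijective _ _ hc hloc n _ _ _ fun x hx => ?_
  obtain ⟨z, hz⟩ : (RelProj.emb p chart U hU).base x ∈ (RelProj.emb p chart D hD).opensRange := by
    rw [RelTildeX.opensRange_emb]; exact hW hx
  refine ⟨z, ?_, (RelProj.emb p chart U hU).isOpenEmbedding.injective ((g.emb_comap hP hU hD z).trans hz)⟩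
  show (RelProj.emb p chart D hD).base z ∈ W
  exact hz ▸ hx

theorem resApp_res {U D : Y.Opens} (g : Good U D) (hU : IsAffineOpen U) (hD : IsAffineOpen D) {W W' : P.Opens}
    (i : W' ≤ W) (t : Sect p chart n U hU W) :
    resApp hP n g hU hD W' ((push p chart n U hU).presheaf.map (homOfLE i).op t) =
      (push p chart n D hD).presheaf.map (homOfLE i).op (resApp hP n g hU hD W t) := rfl

theorem resApp_self {U : Y.Opens} (g : Good U U) (hU : IsAffineOpen U) (W : P.Opens)
    (t : Sect p chart n U hU W) : resApp hP n g hU hU W t = t := by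
  refine val_ext fun z => ?_
  have hz : z.1 = ProjectiveSpectrum.comap (𝒮.res hU hU g.le) (g.irr hU hU) z.1 :=
    (RelProj.emb p chart U hU).isOpenEmbedding.injective (g.emb_comap hP hU hU z.1).symm
  have h := congrArg (fun q => GrTwist.val (V := pre p chart U hU W) q z) (resApp_resApp hP g g g hU hU hU W t)
  rw [val_resApp, val_resApp] at h
  have key : ∀ x : pre p chart U hU W, x.1 = ProjectiveSpectrum.comap (𝒮.res hU hU g.le) (g.irr hU hU) z.1 →
      GrTwist.val (resApp hP n g hU hU W t) x = GrTwist.val t x := by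
    rintro ⟨x, hx⟩ rfl
    exact Good.locMap_injective g hU hU z.1 h
  exact key z hz

/-- Sections in two charts agreeing wherever the charts meet. -/
def Agree {U V : Y.Opens} (hU : IsAffineOpen U) (hV : IsAffineOpen V) (W : P.Opens)
    (s : Sect p chart n U hU W) (t : Sect p chart n V hV W) : Prop :=
  ∀ (D : Y.Opens) (hD : IsAffineOpen D) (g : Good U D) (g' : Good V D),
    resApp hP n g hU hD W s = resApp hP n g' hV hD W t

/-- Agreement can be tested on any cover by common basic opens. -/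
theorem agree_of_cover {U V : Y.Opens} {hU : IsAffineOpen U} {hV : IsAffineOpen V} {W : P.Opens}
    {s : Sect p chart n U hU W} {t : Sect p chart n V hV W}
    (h : ∀ (D : Y.Opens) (x : P), Good U D → Good V D → x ∈ W → p x ∈ D →
      ∃ (D₀ : Y.Opens) (hD₀ : IsAffineOpen D₀) (g : Good U D₀) (g' : Good V D₀) (W' : P.Opens) (i : W' ≤ W),
        p x ∈ D₀ ∧ x ∈ W' ∧
        resApp hP n g hU hD₀ W' ((push p chart n U hU).presheaf.map (homOfLE i).op s) =
          resApp hP n g' hV hD₀ W' ((push p chart n V hV).presheaf.map (homOfLE i).op t)) :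
    Agree hP hU hV W s t := by
  intro D hD g g'
  refine val_ext fun ⟨z, hz⟩ => ?_
  have hxD : p ((RelProj.emb p chart D hD).base z) ∈ D := by
    have : (RelProj.emb p chart D hD).base z ∈ (RelProj.emb p chart D hD).opensRange := ⟨z, rfl⟩
    rwa [RelTildeX.opensRange_emb] at this
  obtain ⟨D₀, hD₀, g₀, g₀', W', i, hx₀, hxW', he⟩ := h D _ g g' hz hxD
  obtain ⟨E, hE, ge, ge₀, hxE⟩ := exists_good hD hD₀ hxD hx₀
  obtain ⟨w, hw⟩ : (RelProj.emb p chart D hD).base z ∈ (RelProj.emb p chart E hE).opensRange := by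
    rw [RelTildeX.opensRange_emb]; exact hxE
  obtain rfl : ProjectiveSpectrum.comap (𝒮.res hD hE ge.le) (ge.irr hD hE) w = z :=
    (RelProj.emb p chart D hD).isOpenEmbedding.injective ((ge.emb_comap hP hD hE w).trans hw)
  refine Good.locMap_injective ge hD hE w ?_
  have e1 := congrArg (resApp hP n ge₀ hD₀ hE W') he
  rw [resApp_resApp hP g₀ ge₀ (g₀.trans hU ge₀), resApp_resApp hP g₀' ge₀ (g₀'.trans hV ge₀),
    resApp_res, resApp_res, ← resApp_resApp hP g ge (g₀.trans hU ge₀) hU hD hE,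
    ← resApp_resApp hP g' ge (g₀'.trans hV ge₀) hV hD hE] at e1
  have hwW : w ∈ pre p chart E hE W' := by
    show (RelProj.emb p chart E hE).base w ∈ W'
    rw [hw]; exact hxW'
  exact congrArg (fun q => GrTwist.val (V := pre p chart E hE W') q ⟨w, hwW⟩) e1

theorem agree_refl {U : Y.Opens} (hU : IsAffineOpen U) {W : P.Opens} (s : Sect p chart n U hU W) :
    Agree hP hU hU W s s := fun _ _ _ _ => rfl

theorem Agree.symm {U V : Y.Opens} {hU : IsAffineOpen U} {hV : IsAffineOpen V} {W : P.Opens}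
    {s : Sect p chart n U hU W} {t : Sect p chart n V hV W} (h : Agree hP hU hV W s t) : Agree hP hV hU W t s :=
  fun D hD g g' => (h D hD g' g).symm

theorem Agree.trans {U V V' : Y.Opens} {hU : IsAffineOpen U} {hV : IsAffineOpen V} {hV' : IsAffineOpen V'}
    {W : P.Opens} (hW : W ≤ p ⁻¹ᵁ V)
    {s : Sect p chart n U hU W} {t : Sect p chart n V hV W} {t' : Sect p chart n V' hV' W}
    (h : Agree hP hU hV W s t) (h' : Agree hP hV hV' W t t') : Agree hP hU hV' W s t' := by
  refine agree_of_cover hP fun D x g g' hx hxD => ?_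
  obtain ⟨D₁, hD₁, g₁, g₁', hx₁⟩ := exists_good hU hV (g.le hxD) (hW hx)
  obtain ⟨D₂, hD₂, g₂, g₂', hx₂⟩ := exists_good hD₁ hV' hx₁ (g'.le hxD)
  refine ⟨D₂, hD₂, g₁.trans hU g₂, g₂', W, le_rfl, hx₂, hx, ?_⟩
  rw [resApp_res, resApp_res, h D₂ hD₂ (g₁.trans hU g₂) (g₁'.trans hV g₂), h' D₂ hD₂ (g₁'.trans hV g₂) g₂']

set_option maxHeartbeats 800000 in
theorem exists_agree {U V : Y.Opens} (hU : IsAffineOpen U) (hV : IsAffineOpen V) {W : P.Opens} (hW : W ≤ p ⁻¹ᵁ U)
    (s : Sect p chart n U hU W) : ∃ t : Sect p chart n V hV W, Agree hP hU hV W s t := by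
  let J := {D : Y.affineOpens // Good U D.1 ∧ Good V D.1}
  let WJ : J → P.Opens := fun D => W ⊓ p ⁻¹ᵁ D.1.1
  choose t ht using fun D : J => (resApp_bijective hP (n := n) D.2.2 hV D.1.2 (inf_le_right : WJ D ≤ _)).2
    (resApp hP n D.2.1 hU D.1.2 (WJ D) ((push p chart n U hU).presheaf.map (homOfLE inf_le_left).op s))
  have hag : ∀ D : J, Agree hP hU hV (WJ D) ((push p chart n U hU).presheaf.map (homOfLE inf_le_left).op s) (t D) :=
    fun D => agree_of_cover hP fun D' x g g' hx hxD => ⟨D.1.1, D.1.2, D.2.1, D.2.2, WJ D, le_rfl, hx.2, hx,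
      (resApp_res hP D.2.1 hU D.1.2 le_rfl _).trans
        ((congrArg _ (ht D).symm).trans (resApp_res hP D.2.2 hV D.1.2 le_rfl (t D)).symm)⟩
  obtain ⟨T, hT, -⟩ := TopCat.Sheaf.existsUnique_gluing'
    ⟨(GrTwist.twist (𝒮.deg V hV) n).presheaf, (GrTwist.twist (𝒮.deg V hV) n).isSheaf⟩
    (fun D : J => pre p chart V hV (WJ D)) (pre p chart V hV W) (fun D => homOfLE fun y hy => hy.1)
    (fun y hy => by
      have hxV : (RelProj.emb p chart V hV).base y ∈ (RelProj.emb p chart V hV).opensRange := ⟨y, rfl⟩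
      rw [RelTildeX.opensRange_emb] at hxV
      obtain ⟨D, hD, g, g', hx⟩ := exists_good hU hV (hW hy) hxV
      exact Opens.mem_iSup.2 ⟨⟨⟨D, hD⟩, g, g'⟩, hy, hx⟩) t (fun D D' => by
      refine val_ext fun ⟨y, hy⟩ => ?_
      have hxV : p ((RelProj.emb p chart V hV).base y) ∈ V := D.2.2.le hy.1.2
      obtain ⟨E, hE, ge, ge', hxE⟩ := exists_good D.1.2 D'.1.2 hy.1.2 hy.2.2
      obtain ⟨w, hw⟩ : (RelProj.emb p chart V hV).base y ∈ (RelProj.emb p chart E hE).opensRange := by
        rw [RelTildeX.opensRange_emb]; exact hxE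
      have gVE : Good V E := D.2.2.trans hV ge
      have gUE : Good U E := D.2.1.trans hU ge
      obtain rfl : ProjectiveSpectrum.comap (𝒮.res hV hE gVE.le) (gVE.irr hV hE) w = y :=
        (RelProj.emb p chart V hV).isOpenEmbedding.injective ((gVE.emb_comap hP hV hE w).trans hw)
      refine Good.locMap_injective gVE hV hE w ?_
      have hw1 : w ∈ pre p chart E hE (WJ D) := by
        show (RelProj.emb p chart E hE).base w ∈ WJ D
        rw [hw]; exact hy.1
      have hw2 : w ∈ pre p chart E hE (WJ D') := by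
        show (RelProj.emb p chart E hE).base w ∈ WJ D'
        rw [hw]; exact hy.2
      have e1 := congrArg (fun q => GrTwist.val (V := pre p chart E hE (WJ D)) q ⟨w, hw1⟩) (hag D E hE gUE gVE)
      have e2 := congrArg (fun q => GrTwist.val (V := pre p chart E hE (WJ D')) q ⟨w, hw2⟩) (hag D' E hE gUE gVE)
      exact e1.symm.trans e2)
  refine ⟨T, agree_of_cover hP fun D x g g' hx hxD => ?_⟩
  have hD : IsAffineOpen D := by obtain ⟨r, rfl⟩ := g; exact hU.basicOpen r
  refine ⟨D, hD, g, g', WJ ⟨⟨D, hD⟩, g, g'⟩, inf_le_left, hxD, ⟨hx, hxD⟩, ?_⟩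
  rw [← ht ⟨⟨D, hD⟩, g, g'⟩]
  exact congrArg _ (hT ⟨⟨D, hD⟩, g, g'⟩).symm

theorem comapStructureSheaf_app {U D : Y.Opens} (g : Good U D) (hU : IsAffineOpen U) (hD : IsAffineOpen D)
    (W : P.Opens) (c : Γ(P, W)) :
    Proj.comapStructureSheaf (𝒮.res hU hD g.le) (g.irr hU hD) (pre p chart U hU W) (pre p chart D hD W)
        (pre_le hP g hU hD W) ((RelProj.emb p chart U hU).app W c) =
      (RelProj.emb p chart D hD).app W c := by
  have h : (RelProj.emb p chart U hU).appLE W (pre p chart U hU W) le_rfl ≫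
      (Proj.map (𝒮.res hU hD g.le) (g.irr hU hD)).appLE (pre p chart U hU W) (pre p chart D hD W)
        (pre_le hP g hU hD W) = (RelProj.emb p chart D hD).appLE W (pre p chart D hD W) le_rfl := by
    rw [Scheme.Hom.appLE_comp_appLE]
    simp only [g.map_emb hP hU hD]
  rw [Scheme.Hom.app_eq_appLE, Scheme.Hom.app_eq_appLE, ← h]
  rfl

theorem resApp_smul {U D : Y.Opens} (g : Good U D) (hU : IsAffineOpen U) (hD : IsAffineOpen D) (W : P.Opens)
    (c : Γ(P, W)) (s : Γ(push p chart n U hU, W)) :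
    resApp hP n g hU hD W (c • s) = (show Γ(push p chart n D hD, W) from c • (show Γ(push p chart n D hD, W) from resApp hP n g hU hD W s)) :=
  comapApp_smul_eq (𝒮.res hU hD g.le) (g.irr hU hD) n _ _ (pre_le hP g hU hD W)
    ((RelProj.emb p chart U hU).app W c) ((RelProj.emb p chart D hD).app W c) (comapStructureSheaf_app hP g hU hD W c) s

/-- Basic-open pairs. -/
abbrev Idx (Y : Scheme.{u}) : Type u := Σ U : Y.affineOpens, Γ(Y, U.1)

variable (n) in
/-- Restriction between charts, as a morphism of modules on `P`. -/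
def resHom (j : Idx Y) :
    push p chart n j.1.1 j.1.2 ⟶ push p chart n (Y.basicOpen j.2) (j.1.2.basicOpen j.2) :=
  ⟨PresheafOfModules.homMk
    { app := fun W => AddCommGrpCat.ofHom (resApp hP n ⟨j.2, rfl⟩ j.1.2 (j.1.2.basicOpen j.2) W.unop)
      naturality := fun _ _ _ => rfl }
    fun W c s => resApp_smul hP ⟨j.2, rfl⟩ j.1.2 (j.1.2.basicOpen j.2) W.unop c s⟩

variable (n) in
/-- The compatibility map. -/
def cmp : (∏ᶜ fun U : Y.affineOpens => push p chart n U.1 U.2) ⟶
    ∏ᶜ fun j : Idx Y => push p chart n (Y.basicOpen j.2) (j.1.2.basicOpen j.2) :=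
  Pi.lift fun j => Pi.π _ (⟨Y.basicOpen j.2, j.1.2.basicOpen j.2⟩ : Y.affineOpens) - Pi.π _ j.1 ≫ resHom hP n j

variable (n) in
/-- The twisting sheaf. -/
def twist : P.Modules := kernel (cmp hP n)

variable (n) in
/-- Its chart maps. -/
def lam (U : Y.Opens) (hU : IsAffineOpen U) : twist hP n ⟶ push p chart n U hU :=
  kernel.ι _ ≫ Pi.π (fun U : Y.affineOpens => push p chart n U.1 U.2) ⟨U, hU⟩

theorem lam_compat {U : Y.Opens} (hU : IsAffineOpen U) (r : Γ(Y, U)) (W : P.Opens) (s : Γ(twist hP n, W)) :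
    (lam hP n (Y.basicOpen r) (hU.basicOpen r)).app W s =
      resApp hP n ⟨r, rfl⟩ hU (hU.basicOpen r) W ((lam hP n U hU).app W s) := by
  have h := congrArg (fun φ => φ ≫ Pi.π _ (⟨⟨U, hU⟩, r⟩ : Idx Y)) (kernel.condition (cmp hP n))
  simp only [cmp, Category.assoc, Pi.lift_π, zero_comp, Preadditive.comp_sub, sub_eq_zero] at h
  exact congrArg (fun φ : twist hP n ⟶ push p chart n _ _ => φ.app W s) h

/-- The sections functor. -/
abbrev secF (W : P.Opens) : P.Modules ⥤ AddCommGrpCat.{u} :=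
  Scheme.Modules.toPresheaf P ⋙ (evaluation _ _).obj (op W)

instance (W : P.Opens) : PreservesLimitsOfSize.{u, u} (secF W) := by
  haveI : PreservesLimitsOfSize.{u, u} ((evaluation (TopologicalSpace.Opens P)ᵒᵖ Ab.{u}).obj (op W)) := inferInstance
  exact comp_preservesLimits _ _

instance (W : P.Opens) : (secF W).Additive := ⟨fun {_ _ _ _} => rfl⟩

theorem lam_ext (W : P.Opens) (s s' : Γ(twist hP n, W))
    (h : ∀ (U : Y.Opens) (hU : IsAffineOpen U), (lam hP n U hU).app W s = (lam hP n U hU).app W s') : s = s' := by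
  haveI : Mono ((secF W).map (kernel.ι (cmp hP n))) := inferInstance
  refine (AddCommGrpCat.mono_iff_injective ((secF W).map (kernel.ι (cmp hP n)))).1 inferInstance (a₁ := s) (a₂ := s') ?_
  let c := isLimitFanMkObjOfIsLimit (secF W) _ _ (productIsProduct fun U : Y.affineOpens => push p chart n U.1 U.2)
  exact Concrete.isLimit_ext _ c _ _ fun ⟨U⟩ => h U.1 U.2

theorem exists_of_compat (W : P.Opens) (t : ∀ U : Y.affineOpens, Sect p chart n U.1 U.2 W)
    (ht : ∀ j : Idx Y, t ⟨Y.basicOpen j.2, j.1.2.basicOpen j.2⟩ =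
      resApp hP n ⟨j.2, rfl⟩ j.1.2 (j.1.2.basicOpen j.2) W (t j.1)) :
    ∃ s : Γ(twist hP n, W), ∀ U : Y.affineOpens, (lam hP n U.1 U.2).app W s = t U := by
  let e : ∀ {M : AddCommGrpCat.{u}}, M → (AddCommGrpCat.of (ULift.{u} ℤ) ⟶ M) :=
    fun m => AddCommGrpCat.ofHom ((zmultiplesHom _ m).comp AddEquiv.ulift.toAddMonoidHom)
  have he : ∀ {M : AddCommGrpCat.{u}} (m : M), e m (ULift.up 1) = m := fun m => one_zsmul m
  let cA := isLimitFanMkObjOfIsLimit (secF W) _ _ (productIsProduct fun U : Y.affineOpens => push p chart n U.1 U.2)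
  let cB := isLimitFanMkObjOfIsLimit (secF W) _ _
    (productIsProduct fun j : Idx Y => push p chart n (Y.basicOpen j.2) (j.1.2.basicOpen j.2))
  let a := cA.lift (Fan.mk _ fun U => e (M := (secF W).obj (push p chart n U.1 U.2)) (t U))
  have ha : ∀ U, a ≫ (secF W).map (Pi.π _ U) = e (M := (secF W).obj (push p chart n U.1 U.2)) (t U) :=
    fun U => cA.fac _ ⟨U⟩
  have h0 : a ≫ (secF W).map (cmp hP n) = 0 := by
    refine cB.hom_ext fun ⟨j⟩ => ?_
    show (a ≫ (secF W).map (cmp hP n)) ≫ (secF W).map (Pi.π _ j) = 0 ≫ _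
    rw [zero_comp, Category.assoc, ← Functor.map_comp, cmp, Pi.lift_π, Functor.map_sub, Preadditive.comp_sub,
      sub_eq_zero, ha, Functor.map_comp, ← Category.assoc, ha]
    refine AddCommGrpCat.hom_ext (AddMonoidHom.ext fun ⟨m⟩ => ?_)
    show m • _ = resApp hP n ⟨j.2, rfl⟩ j.1.2 (j.1.2.basicOpen j.2) W (m • _)
    rw [map_zsmul, ht j]
  let cK := isLimitOfHasKernelOfPreservesLimit (secF W) (cmp hP n)
  obtain ⟨b, hb⟩ : ∃ b : AddCommGrpCat.of (ULift.{u} ℤ) ⟶ (secF W).obj (twist hP n),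
      b ≫ (secF W).map (kernel.ι (cmp hP n)) = a :=
    ⟨_, (KernelFork.IsLimit.lift' cK a h0).2⟩
  refine ⟨b (ULift.up 1), fun U => ?_⟩
  show (secF W).map (lam hP n U.1 U.2) (b (ULift.up 1)) = t U
  rw [lam, Functor.map_comp, ← ConcreteCategory.comp_apply, ← Category.assoc, hb, ha, he]

theorem bijective_lam {U : Y.Opens} (hU : IsAffineOpen U) {W : P.Opens} (hW : W ≤ p ⁻¹ᵁ U) :
    Function.Bijective ((lam hP n U hU).app W) := by
  have hl : ∀ (s : Γ(twist hP n, W)) (V : Y.Opens) (hV : IsAffineOpen V),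
      Agree hP hU hV W ((lam hP n U hU).app W s) ((lam hP n V hV).app W s) := by
    intro s V hV D hD g g'
    obtain ⟨r, rfl⟩ := g
    rw [← lam_compat]
    obtain ⟨r', e⟩ := g'
    exact (show ∀ (D' : Y.Opens) (hD' : IsAffineOpen D') (g : Good V D'), D' = Y.basicOpen r' →
        (lam hP n D' hD').app W s = resApp hP n g hV hD' W ((lam hP n V hV).app W s) from by
      rintro _ hD' g rfl; exact lam_compat hP hV r' W s) _ hD _ e
  refine ⟨fun s s' h => lam_ext hP W s s' fun V hV => ?_, fun t₀ => ?_⟩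
  · refine val_ext fun ⟨y, hy⟩ => ?_
    have hxV : (RelProj.emb p chart V hV).base y ∈ (RelProj.emb p chart V hV).opensRange := ⟨y, rfl⟩
    rw [RelTildeX.opensRange_emb] at hxV
    obtain ⟨D, hD, g, g', hx⟩ := exists_good hU hV (hW hy) hxV
    obtain ⟨w, hw⟩ : (RelProj.emb p chart V hV).base y ∈ (RelProj.emb p chart D hD).opensRange := by
      rw [RelTildeX.opensRange_emb]; exact hx
    obtain rfl : ProjectiveSpectrum.comap (𝒮.res hV hD g'.le) (g'.irr hV hD) w = y :=
      (RelProj.emb p chart V hV).isOpenEmbedding.injective ((g'.emb_comap hP hV hD w).trans hw)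
    refine Good.locMap_injective g' hV hD w ?_
    have e1 := (hl s V hV D hD g g').symm.trans ((congrArg _ h).trans (hl s' V hV D hD g g'))
    have hwW : w ∈ pre p chart D hD W := by
      show (RelProj.emb p chart D hD).base w ∈ W
      rw [hw]; exact hy
    exact congrArg (fun q => GrTwist.val (V := pre p chart D hD W) q ⟨w, hwW⟩) e1
  · choose t ht using fun V : Y.affineOpens => exists_agree hP hU V.2 hW t₀
    obtain ⟨s, hs⟩ := exists_of_compat hP W t fun j => by
      have h := (Agree.trans hP hW (ht j.1).symm (ht ⟨Y.basicOpen j.2, j.1.2.basicOpen j.2⟩))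
        (Y.basicOpen j.2) (j.1.2.basicOpen j.2) ⟨j.2, rfl⟩ ⟨1, (Scheme.basicOpen_of_isUnit _ isUnit_one).symm⟩
      rw [h, resApp_self]
    refine ⟨s, ?_⟩
    rw [hs ⟨U, hU⟩]
    have h := ht ⟨U, hU⟩ U hU ⟨1, (Scheme.basicOpen_of_isUnit _ isUnit_one).symm⟩
      ⟨1, (Scheme.basicOpen_of_isUnit _ isUnit_one).symm⟩
    rwa [resApp_self, resApp_self, eq_comm] at h

theorem isRelTwist : RelProj.IsRelTwist 𝒮 p chart n (twist hP n) (lam hP n) where
  bijective _ hU _ hW := bijective_lam hP hU hW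
  compat _ hU r W s y hy _ :=
    congrArg (fun q => GrTwist.val (V := pre p chart _ (hU.basicOpen r) W) q ⟨y, hy⟩) (lam_compat hP hU r W s)

end Groth.Agent.RelTwistX
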