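import Groth.Agent.RelTwistX.Pullback

/-!
# The canonical morphism of twists along a morphism of relative `Proj`s
-/

noncomputable section

universe u

open CategoryTheory CategoryTheory.Limits AlgebraicGeometry TopologicalSpace Opposite
open scoped HomogeneousIdeal

set_option backward.isDefEq.respectTransparency false
set_option backward.isDefEq.respectTransparency.types false
set_option linter.style.haveILetI false
set_option linter.unusedSectionVars false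

namespace Groth.Agent.RelTwistX

open Groth.Agent

section ext

variable {Y P : Scheme.{u}} {𝒮 : RelProj.QCGrAlg Y} {p : P ⟶ Y}
  {chart : ∀ (U : Y.Opens) (hU : IsAffineOpen U), (((p ⁻¹ᵁ U : P.Opens) : Scheme.{u}) ≅ Proj (𝒮.deg U hU))}
  {n : ℤ} {L : P.Modules}
  {lam' : ∀ (U : Y.Opens) (hU : IsAffineOpen U),
    L ⟶ (Scheme.Modules.pushforward (RelProj.emb p chart U hU)).obj (GrTwist.twist (𝒮.deg U hU) n)}

theorem section_ext (hL : RelProj.IsRelTwist 𝒮 p chart n L lam') {W : P.Opens} (s s' : Γ(L, W))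
    (h : ∀ (U : Y.Opens) (hU : IsAffineOpen U), (lam' U hU).app W s = (lam' U hU).app W s') : s = s' := by
  refine AModX.eq_of_locally _ _ fun x hx => ?_
  obtain ⟨_, ⟨U, hU, rfl⟩, hxU, -⟩ := Y.isBasis_affineOpens.exists_subset_of_mem_open
    (Set.mem_univ (p x)) isOpen_univ
  refine ⟨W ⊓ p ⁻¹ᵁ U, inf_le_left, ⟨hx, hxU⟩, (hL.bijective U hU _ inf_le_right).1 ?_⟩
  rw [AModX.app_res, AModX.app_res, h]

end ext

variable {Y PA PB : Scheme.{u}} {𝒜 ℬ : RelProj.QCGrAlg Y} {φ : 𝒜.toQCAlg ⟶ ℬ.toQCAlg} {hφ : RelProj.IsGradedHom φ}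
  {hirr : ∀ (U : Y.Opens) (hU : IsAffineOpen U),
    (ℬ.deg U hU)₊ ≤ ((𝒜.deg U hU)₊).map (RelProj.gradedHomAt φ hφ U hU)}
  {pA : PA ⟶ Y} {pB : PB ⟶ Y}
  {chartA : ∀ (U : Y.Opens) (hU : IsAffineOpen U), (((pA ⁻¹ᵁ U : PA.Opens) : Scheme.{u}) ≅ Proj (𝒜.deg U hU))}
  {chartB : ∀ (U : Y.Opens) (hU : IsAffineOpen U), (((pB ⁻¹ᵁ U : PB.Opens) : Scheme.{u}) ≅ Proj (ℬ.deg U hU))}
  {h : PB ⟶ PA} (hh : RelProj.IsRelProjMap φ hφ hirr chartA chartB h)
  (hA : RelProj.IsRelProj 𝒜 pA chartA) (hB : RelProj.IsRelProj ℬ pB chartB) {n : ℤ}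

include hh hA hB

variable (n) in
/-- The comparison in one chart. -/
def mapApp (U : Y.Opens) (hU : IsAffineOpen U) (W : PA.Opens) :
    Sect pA chartA n U hU W →+ Sect pB chartB n U hU (h ⁻¹ᵁ W) :=
  GrTwist.comapApp (RelProj.gradedHomAt φ hφ U hU) (hirr U hU) n _ _ (pre_le_map hh U hU W)

theorem mapApp_resApp {U D : Y.Opens} (g : Good U D) (hU : IsAffineOpen U) (hD : IsAffineOpen D) (W : PA.Opens)
    (t : Sect pA chartA n U hU W) :
    resApp hB n g hU hD (h ⁻¹ᵁ W) (mapApp hh n U hU W t) =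
      mapApp hh n D hD W (resApp hA n g hU hD W t) := by
  refine val_ext fun z => ?_
  have h1 := pre_le_map hh U hU W (pre_le hB g hU hD (h ⁻¹ᵁ W) z.2)
  obtain ⟨U', hU', i, j, a, q, hq, hx, -, he⟩ := exists_val_frac t ⟨_, h1⟩
  have hrc : ∀ a, ℬ.res hU hD g.le (RelProj.gradedHomAt φ hφ U hU a) =
      RelProj.gradedHomAt φ hφ D hD (𝒜.res hU hD g.le a) := fun a =>
    congrArg (fun ψ => ψ a) (Proj16.gradedHomAt_comp_res φ hφ U D hU hD g.le)
  have hxx : ProjectiveSpectrum.comap (RelProj.gradedHomAt φ hφ U hU) (hirr U hU)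
      (ProjectiveSpectrum.comap (ℬ.res hU hD g.le) (g.irr hU hD) z.1) =
      ProjectiveSpectrum.comap (𝒜.res hU hD g.le) (g.irr hU hD)
        (ProjectiveSpectrum.comap (RelProj.gradedHomAt φ hφ D hD) (hirr D hD) z.1) := by
    refine (RelProj.emb pA chartA U hU).isOpenEmbedding.injective ?_
    rw [g.emb_comap hA hU hD]
    have e1 := congrArg (fun ψ : Proj (ℬ.deg U hU) ⟶ PA =>
      ψ.base (ProjectiveSpectrum.comap (ℬ.res hU hD g.le) (g.irr hU hD) z.1)) (emb_comp_map hh U hU)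
    have e2 := congrArg (fun ψ : Proj (ℬ.deg D hD) ⟶ PA => ψ.base z.1) (emb_comp_map hh D hD)
    have e3 := g.emb_comap hB hU hD z.1
    exact (show _ = _ from e1).symm.trans ((congrArg h.base e3).trans e2)
  show GrTwist.locMap _ _ _ (GrTwist.locMap _ _ _ (GrTwist.val t ⟨_, h1⟩)) =
    GrTwist.locMap _ _ _ (GrTwist.locMap _ _ _ (GrTwist.val t ⟨_, pre_le hA g hU hD W (pre_le_map hh D hD W z.2)⟩))
  rw [show GrTwist.val t ⟨_, h1⟩ = Localization.mk (a : 𝒜.presheaf.obj (op U)) ⟨q, hq ⟨_, hx⟩⟩ from he ⟨_, hx⟩,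
    show GrTwist.val t ⟨_, pre_le hA g hU hD W (pre_le_map hh D hD W z.2)⟩ =
      Localization.mk (a : 𝒜.presheaf.obj (op U)) ⟨q, hq ⟨_, hxx ▸ hx⟩⟩ from he ⟨_, hxx ▸ hx⟩]
  simp only [GrTwist.locMap_mk, hrc]

variable {LA : PA.Modules}
  {lamA : ∀ (U : Y.Opens) (hU : IsAffineOpen U),
    LA ⟶ (Scheme.Modules.pushforward (RelProj.emb pA chartA U hU)).obj (GrTwist.twist (𝒜.deg U hU) n)}
  (hLA : RelProj.IsRelTwist 𝒜 pA chartA n LA lamA) {LB : PB.Modules}
  {lamB : ∀ (U : Y.Opens) (hU : IsAffineOpen U),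
    LB ⟶ (Scheme.Modules.pushforward (RelProj.emb pB chartB U hU)).obj (GrTwist.twist (ℬ.deg U hU) n)}
  (hLB : RelProj.IsRelTwist ℬ pB chartB n LB lamB)

include hLA hLB

set_option maxHeartbeats 1000000 in
theorem existsUnique_comap :
    ∃! θ : LA ⟶ (Scheme.Modules.pushforward h).obj LB,
      ∀ (U : Y.Opens) (hU : IsAffineOpen U) (W : PA.Opens) (s : Γ(LA, W)),
        (lamB U hU).app (h ⁻¹ᵁ W) (θ.app W s) = mapApp hh n U hU W ((lamA U hU).app W s) := by
  have hex : ∀ (W : PA.Opens) (s : Γ(LA, W)), ∃ t : Γ(LB, h ⁻¹ᵁ W), ∀ U : Y.affineOpens,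
      (lamB U.1 U.2).app (h ⁻¹ᵁ W) t = mapApp hh n U.1 U.2 W ((lamA U.1 U.2).app W s) := fun W s =>
    exists_section hB hLB (h ⁻¹ᵁ W) _ fun U D g => by
      rw [mapApp_resApp hh hA hB g U.2 D.2, ← lam_good hA hLA U.2 D.2 g]
  choose t ht using hex
  have huniq : ∀ (W : PA.Opens) (s : Γ(LA, W)) (t' : Γ(LB, h ⁻¹ᵁ W)),
      (∀ U : Y.affineOpens,
        (lamB U.1 U.2).app (h ⁻¹ᵁ W) t' = mapApp hh n U.1 U.2 W ((lamA U.1 U.2).app W s)) → t' = t W s :=
    fun W s t' ht' => section_ext hLB _ _ fun U hU => (ht' ⟨U, hU⟩).trans (ht W s ⟨U, hU⟩).symm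
  have hadd : ∀ (W : PA.Opens) (s s' : Γ(LA, W)), t W s + t W s' = t W (s + s') := fun W s s' =>
    huniq W _ _ fun U => by
      rw [map_add, ht W s U, ht W s' U, map_add ((lamA U.1 U.2).app W).hom]
      exact (map_add (mapApp hh n U.1 U.2 W) _ _).symm
  refine ⟨⟨PresheafOfModules.homMk
    { app := fun W => AddCommGrpCat.ofHom (AddMonoidHom.mk' (t W.unop) fun s s' => (hadd W.unop s s').symm)
      naturality := fun W W' i => by
        ext s
        refine (huniq W'.unop (LA.presheaf.map i s)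
          (LB.presheaf.map ((Opens.map h.base).map i.unop).op (t W.unop s)) fun U => ?_).symm
        have e1 : (lamB U.1 U.2).app (h ⁻¹ᵁ W'.unop) (LB.presheaf.map ((Opens.map h.base).map i.unop).op (t W.unop s)) =
            (push pB chartB n U.1 U.2).presheaf.map ((Opens.map h.base).map i.unop).op
              ((lamB U.1 U.2).app (h ⁻¹ᵁ W.unop) (t W.unop s)) :=
          AModX.app_res (lamB U.1 U.2) (h.preimage_mono i.unop.le) (t W.unop s)
        have e2 : (lamA U.1 U.2).app W'.unop (LA.presheaf.map i s) =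
            (push pA chartA n U.1 U.2).presheaf.map i ((lamA U.1 U.2).app W.unop s) :=
          AModX.app_res (lamA U.1 U.2) i.unop.le s
        rw [e1, e2, ht W.unop s U]
        rfl }
    fun W c s => by
      refine (huniq W.unop _ (h.app W.unop c • t W.unop s) fun U => val_ext fun z => ?_).symm
      refine (val_smul_sc U.2 (lamB U.1 U.2) _ _ z).trans ?_
      rw [ht W.unop s U, sc_map hh U.1 U.2 c z]
      show GrTwist.locMap _ _ _ _ * GrTwist.locMap _ _ _ _ = GrTwist.locMap _ _ _ _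
      rw [← map_mul]
      exact congrArg _ (val_smul_sc U.2 (lamA U.1 U.2) c s _).symm⟩,
    fun U hU W s => ht W s ⟨U, hU⟩, fun θ hθ => ?_⟩
  refine Scheme.Modules.hom_ext _ _ fun W => ?_
  ext s
  exact huniq W s _ fun U => hθ U.1 U.2 W s

omit hA hB hLA hLB

theorem existsUnique_comap' (hA : RelProj.IsRelProj 𝒜 pA chartA) (hB : RelProj.IsRelProj ℬ pB chartB)
    (hLA : RelProj.IsRelTwist 𝒜 pA chartA n LA lamA) (hLB : RelProj.IsRelTwist ℬ pB chartB n LB lamB) :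
    ∃! θ : LA ⟶ (Scheme.Modules.pushforward h).obj LB,
      ∀ (U : Y.Opens) (hU : IsAffineOpen U) (W : PA.Opens) (s : Γ(LA, W))
        (y : ProjectiveSpectrum (ℬ.deg U hU))
        (hy : (RelProj.emb pB chartB U hU).base y ∈ h ⁻¹ᵁ W)
        (hy' : (RelProj.emb pA chartA U hU).base
          (ProjectiveSpectrum.comap (RelProj.gradedHomAt φ hφ U hU) (hirr U hU) y) ∈ W),
        GrTwist.val (V := RelProj.emb pB chartB U hU ⁻¹ᵁ (h ⁻¹ᵁ W)) ((lamB U hU).app (h ⁻¹ᵁ W) (θ.app W s)) ⟨y, hy⟩ =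
          GrTwist.locMap (RelProj.gradedHomAt φ hφ U hU) (hirr U hU) y
            (GrTwist.val (V := RelProj.emb pA chartA U hU ⁻¹ᵁ W) ((lamA U hU).app W s) ⟨_, hy'⟩) := by
  obtain ⟨θ, hθ, hu⟩ := existsUnique_comap hh hA hB hLA hLB
  refine ⟨θ, fun U hU W s y hy _ => congrArg (fun q => GrTwist.val (V := pre pB chartB U hU (h ⁻¹ᵁ W)) q ⟨y, hy⟩)
    (hθ U hU W s), fun θ' hθ' => hu θ' fun U hU W s => val_ext fun ⟨y, hy⟩ => ?_⟩
  exact hθ' U hU W s y hy (pre_le_map hh U hU W hy)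

end Groth.Agent.RelTwistX
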