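import Groth.Agent.RelTwistX.Period
import Groth.Agent.AmpleX.Rel

/-!
# A suitable twist of a relative `Proj` of finite type is relatively ample
-/

noncomputable section

universe u

open CategoryTheory CategoryTheory.Limits AlgebraicGeometry TopologicalSpace Opposite HomogeneousLocalization
open scoped HomogeneousIdeal

set_option backward.isDefEq.respectTransparency false
set_option backward.isDefEq.respectTransparency.types false
set_option linter.style.haveILetI false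
set_option linter.unusedSectionVars false

namespace Groth.Agent.RelTwistX

open Groth.Agent

section ring

variable {A σ : Type u} [CommRing A] [SetLike σ A] [AddSubgroupClass σ A] (𝒜 : ℕ → σ) [GradedRing 𝒜]

/-- The global section `a / 1` of `O(d)`. -/
def secD {d : ℕ} {a : A} (ha : a ∈ 𝒜 d) : Γ(GrTwist.twist 𝒜 (d : ℤ), ⊤) :=
  GrTwist.globalOf 𝒜 (⟨a, ha⟩ : 𝒜 d)

theorem val_secD {d : ℕ} {a : A} (ha : a ∈ 𝒜 d) (U : (Proj 𝒜).Opens) (x : U) :
    GrTwist.val (AModX.res (GrTwist.twist 𝒜 (d : ℤ)) (le_top : U ≤ ⊤) (secD 𝒜 ha)) x =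
      (Localization.mk a ⟨1, fun h => x.1.isPrime.ne_top ((Ideal.eq_top_iff_one _).mpr h)⟩ : GrTwist.Loc 𝒜 x.1) := rfl

theorem isFrame_secD {d : ℕ} {a : A} (ha : a ∈ 𝒜 d) :
    InvX.IsFrame (AModX.res (GrTwist.twist 𝒜 (d : ℤ)) (le_top : Proj.basicOpen 𝒜 a ≤ ⊤) (secD 𝒜 ha)) := by
  let φ := dFrac (U := Proj.basicOpen 𝒜 a) ha 1 (d : ℤ) (one_mul _) fun x => x.2
  have h : AModX.res (GrTwist.twist 𝒜 (d : ℤ)) (le_top : Proj.basicOpen 𝒜 a ≤ ⊤) (secD 𝒜 ha) =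
      GrTwistX.fracSect φ := val_ext fun x => by
    refine (val_secD 𝒜 ha _ x).trans ?_
    show _ = Localization.mk φ.num _
    congr 1
    · simp [φ, dFrac]
    · exact Subtype.ext (by simp [φ, dFrac])
  rw [h]
  exact isFrame_fracSect φ

theorem genLocus_secD {d : ℕ} {κ : Type*} (g : κ → A) (hg : ∀ j, g j ∈ 𝒜 d)
    (hcov : ⨆ j, Proj.basicOpen 𝒜 (g j) = ⊤) {a : A} (ha : a ∈ 𝒜 d) :
    CohB1.genLocus (GrTwist.twist 𝒜 (d : ℤ)) (InvX.ofSect (secD 𝒜 ha)) = Proj.basicOpen 𝒜 a := by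
  refine le_antisymm (fun x hx => ?_) (InvX.le_genLocus _ ?_)
  · obtain ⟨j, hj⟩ := Opens.mem_iSup.1 (hcov.ge (trivial : x ∈ (⊤ : (Proj 𝒜).Opens)))
    let D := Proj.basicOpen 𝒜 (g j)
    let c : Γ(Proj 𝒜, D) := (Proj.awayToSection 𝒜 (g j)).hom (Away.mk 𝒜 (hg j) 1 a (by rwa [one_smul]))
    have h1 : AModX.res (GrTwist.twist 𝒜 (d : ℤ)) (le_top : D ≤ ⊤) (InvX.one (InvX.ofSect (secD 𝒜 ha))) =
        c • AModX.res (GrTwist.twist 𝒜 (d : ℤ)) (le_top : D ≤ ⊤) (secD 𝒜 (hg j)) := by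
      rw [InvX.one_ofSect]
      refine val_ext fun y => ?_
      refine Eq.trans ?_ (GrTwist.coe_smul_val (d : ℤ) y.1 _ _).symm
      refine (val_secD 𝒜 ha D y).trans ?_
      show _ = (GrModX.oval 𝒜 (Proj.awayToSection 𝒜 (g j) (Away.mk 𝒜 (hg j) 1 a (by rwa [one_smul]))) y).val * _
      rw [GrModX.oval_awayToSection]
      refine Eq.trans ?_ (congrArg _ (val_secD 𝒜 (hg j) D y)).symm
      rw [Localization.mk_mul, Localization.mk_eq_mk_iff, Localization.r_iff_exists]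
      exact ⟨1, by simp [mul_comm]⟩
    have h2 := InvX.genLocus_inf (InvX.ofSect (secD 𝒜 ha)) (isFrame_secD 𝒜 (hg j)) h1
    have hxc : x ∈ (Proj 𝒜).basicOpen c := h2 ▸ ⟨hx, hj⟩
    rw [show (Proj 𝒜).basicOpen c = _ from GrModX.basicOpen_awayToSection 𝒜 (hg j) 1 _] at hxc
    exact fun h => hxc (x.asHomogeneousIdeal.toIdeal.mul_mem_left _ h)
  · rw [InvX.one_ofSect]
    exact isFrame_secD 𝒜 ha

theorem isAmple_twist_deg {d : ℕ} (hd : 0 < d) (s : Finset A) (hs1 : ∀ f ∈ s, f ∈ 𝒜 d)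
    (hcov : ⨆ f : s, Proj.basicOpen 𝒜 (f : A) = ⊤) : CohB1.IsAmple (GrTwist.twist 𝒜 (d : ℤ)) := by
  have hL : PicF.IsInvertible (GrTwist.twist 𝒜 (d : ℤ)) := InvX.isInvertible_of_frames fun x => by
    obtain ⟨f, hf⟩ := Opens.mem_iSup.1 (hcov.ge (trivial : x ∈ (⊤ : (Proj 𝒜).Opens)))
    exact ⟨_, hf, _, isFrame_secD 𝒜 (hs1 f f.2)⟩
  have haff : ∀ f : s, IsAffineOpen (Proj.basicOpen 𝒜 (f : A)) := fun f =>
    Proj.isAffineOpen_basicOpen 𝒜 _ (hs1 f f.2) hd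
  refine AmpleX.isAmple_iff.2 ⟨hL, ⟨?_⟩, fun x => ?_⟩
  · have : (Set.univ : Set (Proj 𝒜)) = ⋃ f : s, (Proj.basicOpen 𝒜 (f : A) : Set (Proj 𝒜)) := by
      rw [← Opens.coe_iSup, hcov]
      rfl
    rw [this]
    exact isCompact_iUnion fun f => (haff f).isCompact
  · obtain ⟨f, hf⟩ := Opens.mem_iSup.1 (hcov.ge (trivial : x ∈ (⊤ : (Proj 𝒜).Opens)))
    refine ⟨1, one_pos, InvX.powHom (InvX.ofSect (secD 𝒜 (hs1 f f.2))) 1, ?_⟩
    rw [InvX.genLocus_powHom hL _ 0, genLocus_secD 𝒜 (fun f : s => (f : A)) (fun f => hs1 f f.2) hcov (hs1 f f.2)]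
    exact ⟨hf, haff f⟩

/-- A finitely generated algebra has finitely many homogeneous elements with non-vanishing loci covering `Proj`. -/
theorem exists_homogeneous_cover {R : Type u} [CommRing R] (φ : R →+* A) (hφ : ∀ r, φ r ∈ 𝒜 0) (hft : φ.FiniteType) :
    ∃ (T : Finset (Σ d : ℕ, 𝒜 d)), (∀ t ∈ T, 0 < t.1) ∧
      ∀ x : ProjectiveSpectrum 𝒜, ∃ t ∈ T, (t.2 : A) ∉ x.asHomogeneousIdeal := by
  classical
  algebraize [φ]
  obtain ⟨s, hs⟩ := (inferInstance : Algebra.FiniteType R A).out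
  let T : Finset (Σ d : ℕ, 𝒜 d) := s.biUnion fun a => ((DirectSum.decompose 𝒜 a).support.filter (0 < ·)).image
    fun d => ⟨d, DirectSum.decompose 𝒜 a d⟩
  refine ⟨T, fun t ht => ?_, fun x => ?_⟩
  · obtain ⟨a, -, hat⟩ := Finset.mem_biUnion.1 ht
    obtain ⟨d, hd, rfl⟩ := Finset.mem_image.1 hat
    exact (Finset.mem_filter.1 hd).2
  by_contra! hall
  let f : A →+* A ⧸ x.asHomogeneousIdeal.toIdeal := Ideal.Quotient.mk _
  let g : A →+* A ⧸ x.asHomogeneousIdeal.toIdeal := f.comp (GradedRing.projZeroRingHom 𝒜)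
  have key : ∀ a : A, f a = g a := by
    intro a
    have ha : a ∈ Algebra.adjoin R (s : Set A) := hs ▸ Algebra.mem_top
    induction ha using Algebra.adjoin_induction with
    | mem b hb =>
      show f b = f (DirectSum.decompose 𝒜 b 0 : A)
      conv_lhs => rw [← DirectSum.sum_support_decompose 𝒜 b, map_sum]
      refine (Finset.sum_eq_single 0 (fun d hd hd0 => ?_) fun h0 => ?_)
      · refine Ideal.Quotient.eq_zero_iff_mem.2 (hall ⟨d, DirectSum.decompose 𝒜 b d⟩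
          (Finset.mem_biUnion.2 ⟨b, hb, Finset.mem_image.2 ⟨d, Finset.mem_filter.2 ⟨hd, Nat.pos_of_ne_zero hd0⟩, rfl⟩⟩))
      · rw [DFinsupp.notMem_support_iff.1 h0]; simp
    | algebraMap r =>
      show f (φ r) = f (DirectSum.decompose 𝒜 (φ r) 0 : A)
      rw [DirectSum.decompose_of_mem_same _ (hφ r)]
    | add a b _ _ ha hb => rw [map_add, map_add, ha, hb]
    | mul a b _ _ ha hb => rw [map_mul, map_mul, ha, hb]
  exact x.not_irrelevant_le ((HomogeneousIdeal.irrelevant_le _).2 fun d hd b hb => Ideal.Quotient.eq_zero_iff_mem.1 (by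
    show f b = 0
    rw [key b]
    show f (DirectSum.decompose 𝒜 b 0 : A) = 0
    rw [DirectSum.decompose_of_mem_ne 𝒜 (show b ∈ 𝒜 d from hb) hd.ne', map_zero]))

end ring

variable {Y X : Scheme.{u}} {𝒮 : RelProj.QCGrAlg Y} {f : X ⟶ Y}
  {chart : ∀ (U : Y.Opens) (hU : IsAffineOpen U), ((f ⁻¹ᵁ U : X.Opens) : Scheme.{u}) ≅ Proj (𝒮.deg U hU)}

theorem exists_relAmple_twist [CompactSpace Y]
    (hft : ∀ (U : Y.Opens), IsAffineOpen U → (𝒮.str.app (op U)).hom.FiniteType)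
    (_hX : RelProj.IsRelProj 𝒮 f chart) :
    ∃ d : ℕ, 0 < d ∧ ∀ (L : X.Modules)
      (lam : ∀ (U : Y.Opens) (hU : IsAffineOpen U),
        L ⟶ (Scheme.Modules.pushforward (RelProj.emb f chart U hU)).obj (GrTwist.twist (𝒮.deg U hU) (d : ℤ))),
      RelProj.IsRelTwist 𝒮 f chart (d : ℤ) L lam → PicF.IsInvertible L ∧ RelAmple.IsRelAmple f L := by
  classical
  obtain ⟨K, hK⟩ := isCompact_univ.elim_finite_subcover (fun U : Y.affineOpens => (U.1 : Set Y)) (fun U => U.1.2)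
    fun y _ => by
      obtain ⟨_, ⟨U, hU, rfl⟩, hyU, -⟩ := Y.isBasis_affineOpens.exists_subset_of_mem_open (Set.mem_univ y) isOpen_univ
      exact Set.mem_iUnion.2 ⟨⟨U, hU⟩, hyU⟩
  choose T hTpos hTcov using fun U : Y.affineOpens =>
    exists_homogeneous_cover (𝒮.deg U.1 U.2) (𝒮.str.app (op U.1)).hom (𝒮.str_mem U.1 U.2) (hft U.1 U.2)
  let d : ℕ := ∏ U ∈ K, ∏ t ∈ T U, t.1
  have hdpos : 0 < d := Finset.prod_pos fun U _ => Finset.prod_pos fun t ht => hTpos U t ht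
  have hdvd : ∀ U ∈ K, ∀ t ∈ T U, t.1 ∣ d := fun U hU t ht =>
    (Finset.dvd_prod_of_mem (fun s => s.1) ht).trans (Finset.dvd_prod_of_mem (fun U => ∏ t ∈ T U, t.1) hU)
  refine ⟨d, hdpos, fun L lam hL => ?_⟩
  have hamp : ∀ U ∈ K, CohB1.IsAmple (GrTwist.twist (𝒮.deg U.1 U.2) (d : ℤ)) := fun U hU => by
    refine isAmple_twist_deg _ hdpos ((T U).image fun t => (t.2 : 𝒮.presheaf.obj (op U.1)) ^ (d / t.1))
      (fun b hb => ?_) (top_unique fun x _ => ?_)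
    · obtain ⟨t, ht, rfl⟩ := Finset.mem_image.1 hb
      have := SetLike.pow_mem_graded (A := 𝒮.deg U.1 U.2) (d / t.1) t.2.2
      rwa [smul_eq_mul, Nat.div_mul_cancel (hdvd U hU t ht)] at this
    · obtain ⟨t, ht, htx⟩ := hTcov U x
      exact Opens.mem_iSup.2 ⟨⟨_, Finset.mem_image_of_mem _ ht⟩, fun h => htx (x.isPrime.mem_of_pow_mem _ h)⟩
  have hqc : QuasiCompact f := by
    refine quasiCompact_iff_forall_isAffineOpen.2 fun U hU => ?_
    obtain ⟨T', hT', hTcov'⟩ := exists_homogeneous_cover (𝒮.deg U hU) (𝒮.str.app (op U)).hom (𝒮.str_mem U hU) (hft U hU)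
    have hc : IsCompact (Set.univ : Set (Proj (𝒮.deg U hU))) := by
      have : (Set.univ : Set (Proj (𝒮.deg U hU))) = ⋃ t ∈ T', (Proj.basicOpen (𝒮.deg U hU) (t.2 : 𝒮.presheaf.obj (op U)) : Set _) :=
        Set.ext fun x => ⟨fun _ => Set.mem_iUnion₂.2 (by obtain ⟨t, ht, htx⟩ := hTcov' x; exact ⟨t, ht, htx⟩),
          fun _ => trivial⟩
      rw [this]
      exact T'.isCompact_biUnion fun t ht => (Proj.isAffineOpen_basicOpen _ _ t.2.2 (hT' t ht)).isCompact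
    have := hc.image (RelProj.emb f chart U hU).continuous
    rwa [Set.image_univ, ← Scheme.Hom.coe_opensRange, RelTildeX.opensRange_emb] at this
  have hrel : RelAmple.IsRelAmple f L := by
    refine AmpleX.isRelAmple_of_ampleOn fun x => ?_
    obtain ⟨U, hU, hxU⟩ := Set.mem_iUnion₂.1 (hK (Set.mem_univ (f x)))
    exact ⟨U.1, _, RelProj.emb f chart U.1 U.2, inferInstance, hxU, (RelTildeX.opensRange_emb f chart U.1 U.2).ge,
      AmpleX.isAmple_of_iso (RelTildeX.twistIso hL U.1 U.2).symm (hamp U hU)⟩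
  exact ⟨AmpleX.isInvertible_of_isRelAmple hrel, hrel⟩

end Groth.Agent.RelTwistX
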