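import Groth.Agent.RelTwistX.Ample
import Groth.Agent.InvUfdLib.Trivial

/-!
# Sections and frames of relative twists, chart by chart
-/

noncomputable section

universe u

open CategoryTheory CategoryTheory.Limits AlgebraicGeometry TopologicalSpace Opposite
open scoped HomogeneousIdeal

set_option backward.isDefEq.respectTransparency false
set_option backward.isDefEq.respectTransparency.types false
set_option linter.style.haveILetI false
set_option linter.unusedSectionVars false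

namespace Groth.Agent.RelTwistX

open Groth.Agent

variable {Y P : Scheme.{u}} {𝒮 : RelProj.QCGrAlg Y} {p : P ⟶ Y}
  {chart : ∀ (U : Y.Opens) (hU : IsAffineOpen U), (((p ⁻¹ᵁ U : P.Opens) : Scheme.{u}) ≅ Proj (𝒮.deg U hU))}
  {n : ℤ} {L : P.Modules}
  {lam' : ∀ (U : Y.Opens) (hU : IsAffineOpen U),
    L ⟶ (Scheme.Modules.pushforward (RelProj.emb p chart U hU)).obj (GrTwist.twist (𝒮.deg U hU) n)}
  (hP : RelProj.IsRelProj 𝒮 p chart) (hL : RelProj.IsRelTwist 𝒮 p chart n L lam')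

include hP hL

theorem lam_res {U : Y.Opens} (hU : IsAffineOpen U) (r : Γ(Y, U)) (W : P.Opens) (s : Γ(L, W)) :
    (lam' (Y.basicOpen r) (hU.basicOpen r)).app W s =
      resApp hP n ⟨r, rfl⟩ hU (hU.basicOpen r) W ((lam' U hU).app W s) := by
  refine val_ext fun ⟨y, hy⟩ => ?_
  exact hL.compat U hU r W s y hy (pre_le hP ⟨r, rfl⟩ hU (hU.basicOpen r) W hy)

theorem lam_good {U D : Y.Opens} (hU : IsAffineOpen U) (hD : IsAffineOpen D) (g : Good U D) (W : P.Opens)
    (s : Γ(L, W)) : (lam' D hD).app W s = resApp hP n g hU hD W ((lam' U hU).app W s) := by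
  obtain ⟨r, rfl⟩ := g
  exact lam_res hP hL hU r W s

/-- A compatible family of chart sections is a section. -/
theorem exists_section (W : P.Opens) (t : ∀ U : Y.affineOpens, Sect p chart n U.1 U.2 W)
    (ht : ∀ (U D : Y.affineOpens) (g : Good U.1 D.1), t D = resApp hP n g U.2 D.2 W (t U)) :
    ∃ s : Γ(L, W), ∀ U : Y.affineOpens, (lam' U.1 U.2).app W s = t U := by
  choose s hs using fun U : Y.affineOpens => (hL.bijective U.1 U.2 (W ⊓ p ⁻¹ᵁ U.1) inf_le_right).2
    ((push p chart n U.1 U.2).presheaf.map (homOfLE (inf_le_left : W ⊓ p ⁻¹ᵁ U.1 ≤ W)).op (t U))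
  have hagree : ∀ (U V : Y.affineOpens) (W' : P.Opens) (hU : W' ≤ W ⊓ p ⁻¹ᵁ U.1) (hV : W' ≤ W ⊓ p ⁻¹ᵁ V.1),
      AModX.res L hU (s U) = AModX.res L hV (s V) := by
    intro U V W' hU hV
    refine AModX.eq_of_locally _ _ fun x hx => ?_
    obtain ⟨D, hD, g, g', hxD⟩ := exists_good U.2 V.2 (x := p x) (hU hx).2 (hV hx).2
    refine ⟨W' ⊓ p ⁻¹ᵁ D, inf_le_left, ⟨hx, hxD⟩, (hL.bijective D hD _ inf_le_right).1 ?_⟩
    have key : ∀ (A : Y.affineOpens) (gA : Good A.1 D) (hA : W' ≤ W ⊓ p ⁻¹ᵁ A.1),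
        (lam' D hD).app (W' ⊓ p ⁻¹ᵁ D) (AModX.res L inf_le_left (AModX.res L hA (s A))) =
          (push p chart n D hD).presheaf.map
            (homOfLE (inf_le_left.trans (hA.trans inf_le_left) : W' ⊓ p ⁻¹ᵁ D ≤ W)).op (t ⟨D, hD⟩) := by
      intro A gA hA
      rw [AModX.res_res, lam_good hP hL A.2 hD gA, AModX.app_res, hs A]
      refine (congrArg _ (AModX.res_res (M := push p chart n A.1 A.2) inf_le_left (inf_le_left.trans hA) (t A))).trans ?_
      rw [ht A ⟨D, hD⟩ gA]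
      exact resApp_res hP gA A.2 hD _ (t A)
    exact (key U g hU).trans (key V g' hV).symm
  obtain ⟨S, hS, -⟩ := AModX.existsUnique_glue (M := L) (V := W) (fun U : Y.affineOpens => W ⊓ p ⁻¹ᵁ U.1)
    (fun _ => inf_le_left) (fun x hx => by
      obtain ⟨_, ⟨U, hU, rfl⟩, hxU, -⟩ := Y.isBasis_affineOpens.exists_subset_of_mem_open
        (Set.mem_univ (p x)) isOpen_univ
      exact ⟨⟨U, hU⟩, hx, hxU⟩) s fun U V => hagree U V _ inf_le_left inf_le_right
  refine ⟨S, fun V => val_ext fun ⟨y, hy⟩ => ?_⟩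
  have hxV : (RelProj.emb p chart V.1 V.2).base y ∈ p ⁻¹ᵁ V.1 := by
    rw [← RelTildeX.opensRange_emb p chart V.1 V.2]; exact ⟨y, rfl⟩
  have h1 := hs V
  rw [show s V = AModX.res L inf_le_left S from (hS V).symm, AModX.app_res] at h1
  exact congrArg (fun q => GrTwist.val (V := pre p chart V.1 V.2 (W ⊓ p ⁻¹ᵁ V.1)) q ⟨y, hy, hxV⟩) h1

omit hP in
/-- Frames can be tested in the charts. -/
theorem isFrame_of_charts {W : P.Opens} (s : Γ(L, W))
    (h : ∀ (U : Y.Opens) (hU : IsAffineOpen U),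
      InvX.IsFrame (M := GrTwist.twist (𝒮.deg U hU) n) (U := pre p chart U hU W) ((lam' U hU).app W s)) :
    InvX.IsFrame s := by
  refine InvUfdLib.isFrame_of_cover (fun U : Y.affineOpens => W ⊓ p ⁻¹ᵁ U.1) (fun _ => inf_le_left)
    (fun x hx => by
      obtain ⟨_, ⟨U, hU, rfl⟩, hxU, -⟩ := Y.isBasis_affineOpens.exists_subset_of_mem_open
        (Set.mem_univ (p x)) isOpen_univ
      exact ⟨⟨U, hU⟩, hx, hxU⟩) s fun U V hV => ?_
  obtain ⟨U, hU⟩ := U
  have hVU : V ≤ p ⁻¹ᵁ U := hV.trans inf_le_right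
  have hVW : V ≤ W := hV.trans inf_le_left
  haveI : IsIso ((RelProj.emb p chart U hU).app V) :=
    (RelProj.emb p chart U hU).isIso_app V (by rw [RelTildeX.opensRange_emb]; exact hVU)
  have hb := (h U hU (pre p chart U hU V) ((RelProj.emb p chart U hU).preimage_mono hVW)).comp
    (ConcreteCategory.bijective_of_isIso (C := CommRingCat) ((RelProj.emb p chart U hU).app V))
  refine (Function.Bijective.of_comp_iff' (hL.bijective U hU V hVU) _).1 ?_
  refine Eq.mp (congrArg Function.Bijective ?_) hb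
  funext r
  show _ = (lam' U hU).app V (r • AModX.res L hV (AModX.res L inf_le_left s))
  rw [Scheme.Modules.Hom.app_smul, AModX.res_res, AModX.app_res]
  rfl

end Groth.Agent.RelTwistX
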