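import Groth.Agent.RelTwistX.Pullback
import Groth.Agent.AmpleX.Locus

/-!
# Periods of the twists on a compact open of a relative `Proj`
-/

noncomputable section

universe u

open CategoryTheory CategoryTheory.Limits AlgebraicGeometry TopologicalSpace Opposite
open scoped HomogeneousIdeal

set_option backward.isDefEq.respectTransparency false
set_option backward.isDefEq.respectTransparency.types false
set_option linter.style.haveILetI false
set_option linter.unusedSectionVars false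

namespace Groth.Agent.RelTwistX

open Groth.Agent

section ring

variable {A σ : Type u} [CommRing A] [SetLike σ A] [AddSubgroupClass σ A] {𝒜 : ℕ → σ} [GradedRing 𝒜]

/-- `g ^ k` for `g` of degree `d`, as an invertible fraction of degree `z = k * d`. -/
def dFrac {U : Opens (ProjectiveSpectrum.top 𝒜)} {g : A} {d : ℕ} (hg : g ∈ 𝒜 d) (k z : ℤ) (hz : k * d = z)
    (h : GrTwistX.NonVan (𝒜 := 𝒜) g U) : GrTwistX.UnitFrac (𝒜 := 𝒜) z U where
  i := k.toNat * d
  j := (-k).toNat * d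
  num := g ^ k.toNat
  den := g ^ (-k).toNat
  num_mem := by simpa using SetLike.pow_mem_graded k.toNat hg
  den_mem := by simpa using SetLike.pow_mem_graded (-k).toNat hg
  deg := by
    subst hz
    have h1 : (k.toNat : ℤ) - ((-k).toNat : ℤ) = k := by omega
    push_cast
    linear_combination (d : ℤ) * h1
  num_ne x := GrTwistX.notMem_pow (h x) _
  den_ne x := GrTwistX.notMem_pow (h x) _

theorem zVal_zero (x : ProjectiveSpectrum 𝒜) (g : A) (h : g ∉ x.asHomogeneousIdeal) : zVal x g h 0 = 1 := by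
  simp [zVal]

end ring

variable {Y P : Scheme.{u}} {𝒮 : RelProj.QCGrAlg Y} {p : P ⟶ Y}
  {chart : ∀ (U : Y.Opens) (hU : IsAffineOpen U), (((p ⁻¹ᵁ U : P.Opens) : Scheme.{u}) ≅ Proj (𝒮.deg U hU))}
  {n : ℤ} {L : P.Modules}
  {lam' : ∀ (U : Y.Opens) (hU : IsAffineOpen U),
    L ⟶ (Scheme.Modules.pushforward (RelProj.emb p chart U hU)).obj (GrTwist.twist (𝒮.deg U hU) n)}

/-- A homogeneous element of positive degree over an affine open. -/
abbrev DegPos (𝒮 : RelProj.QCGrAlg Y) : Type u :=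
  Σ U : Y.affineOpens, Σ d : {d : ℕ // 0 < d}, {g : 𝒮.presheaf.obj (op U.1) // g ∈ 𝒮.deg U.1 U.2 d.1}

variable (p chart) in
/-- Its non-vanishing locus. -/
def locP (a : DegPos 𝒮) : P.Opens :=
  RelProj.emb p chart a.1.1 a.1.2 ''ᵁ Proj.basicOpen (𝒮.deg a.1.1 a.1.2) a.2.2.1

theorem locP_le (a : DegPos 𝒮) : locP p chart a ≤ p ⁻¹ᵁ a.1.1 :=
  (Scheme.Hom.image_le_opensRange _ _).trans (RelTildeX.opensRange_emb p chart _ _).le

theorem nonVan_locP (a : DegPos 𝒮) :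
    GrTwistX.NonVan (𝒜 := 𝒮.deg a.1.1 a.1.2) a.2.2.1 (pre p chart a.1.1 a.1.2 (locP p chart a)) := fun y => by
  obtain ⟨z, hz, e⟩ := y.2
  rw [← (RelProj.emb p chart a.1.1 a.1.2).isOpenEmbedding.injective e]
  exact hz

theorem exists_mem_locP (x : P) : ∃ a : DegPos 𝒮, x ∈ locP p chart a := by
  obtain ⟨_, ⟨U, hU, rfl⟩, hxU, -⟩ := Y.isBasis_affineOpens.exists_subset_of_mem_open
    (Set.mem_univ (p x)) isOpen_univ
  have hxr : x ∈ (RelProj.emb p chart U hU).opensRange := by rw [RelTildeX.opensRange_emb]; exact hxU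
  obtain ⟨y, rfl⟩ := hxr
  obtain ⟨d, hd, g, hg, hgy⟩ : ∃ d, 0 < d ∧ ∃ g ∈ 𝒮.deg U hU d, g ∉ y.asHomogeneousIdeal := by
    by_contra! hall
    exact y.not_irrelevant_le ((HomogeneousIdeal.irrelevant_le _).2 fun d hd b hb => hall d hd b hb)
  exact ⟨⟨⟨U, hU⟩, ⟨d, hd⟩, g, hg⟩, y, hgy, rfl⟩

theorem exists_finite_cover {W : P.Opens} (hW : IsCompact (W : Set P)) :
    ∃ (T : Finset (DegPos 𝒮)) (d : ℕ), 0 < d ∧ (∀ a ∈ T, a.2.1.1 ∣ d) ∧ ∀ x ∈ W, ∃ a ∈ T, x ∈ locP p chart a := by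
  obtain ⟨T, hT⟩ := hW.elim_finite_subcover (fun a : DegPos 𝒮 => (locP p chart a : Set P)) (fun a => (locP p chart a).2)
    fun x _ => Set.mem_iUnion.2 (exists_mem_locP x)
  refine ⟨T, ∏ a ∈ T, a.2.1.1, Finset.prod_pos fun a _ => a.2.1.2, fun a ha => Finset.dvd_prod_of_mem _ ha,
    fun x hx => ?_⟩
  obtain ⟨a, ha, hxa⟩ := Set.mem_iUnion₂.1 (hT hx)
  exact ⟨a, ha, hxa⟩

/-- Frames on the loci of homogeneous elements whose degree divides the twist. -/
theorem exists_frame_locP (hP : RelProj.IsRelProj 𝒮 p chart) (hL : RelProj.IsRelTwist 𝒮 p chart n L lam')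
    (a : DegPos 𝒮) (hdvd : (a.2.1.1 : ℤ) ∣ n) :
    ∃ s : Γ(L, locP p chart a), InvX.IsFrame s ∧
      ∀ (D : Y.Opens) (hD : IsAffineOpen D) (g : Good a.1.1 D) (V : P.Opens) (hV : V ≤ locP p chart a)
        (w : pre p chart D hD V) (hw : 𝒮.res a.1.2 hD g.le a.2.2.1 ∉ w.1.asHomogeneousIdeal),
        GrTwist.val (V := pre p chart D hD V) ((lam' D hD).app V (AModX.res L hV s)) w =
          zVal w.1 (𝒮.res a.1.2 hD g.le a.2.2.1) hw (n / a.2.1.1) := by
  obtain ⟨s, hs, hse⟩ := exists_frame_chart hL a.1.2 (locP_le (p := p) (chart := chart) a)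
    (dFrac a.2.2.2 (n / a.2.1.1) n (Int.ediv_mul_cancel hdvd) (nonVan_locP (p := p) (chart := chart) a))
  refine ⟨s, hs, fun D hD g V hV w hw => ?_⟩
  rw [val_chart_good hP hL a.1.2 hD g hV s w, hse]
  refine (GrTwist.locMap_mk (𝒮.res a.1.2 hD g.le) (g.irr a.1.2 hD) w.1 _ _).trans ?_
  simp only [dFrac, zVal, map_pow]

theorem exists_period_isInvertible (hP : RelProj.IsRelProj 𝒮 p chart) (W : P.Opens) (hW : IsCompact (W : Set P)) :
    ∃ d : ℕ, 0 < d ∧ ∀ (m : ℤ), (d : ℤ) ∣ m → ∀ (L : P.Modules)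
      (lam' : ∀ (U : Y.Opens) (hU : IsAffineOpen U),
        L ⟶ (Scheme.Modules.pushforward (RelProj.emb p chart U hU)).obj (GrTwist.twist (𝒮.deg U hU) m)),
      RelProj.IsRelTwist 𝒮 p chart m L lam' → PicF.IsInvertible (L.restrict W.ι) := by
  obtain ⟨T, d, hd, hdvd, hcov⟩ := exists_finite_cover (p := p) (chart := chart) hW
  refine ⟨d, hd, fun m hm L lam' hL => InvX.isInvertible_of_frames fun x => ?_⟩
  obtain ⟨a, ha, hxa⟩ := hcov x.1 x.2
  obtain ⟨s, hs, -⟩ := exists_frame_locP hP hL a ((Int.natCast_dvd_natCast.2 (hdvd a ha)).trans hm)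
  let V : W.toScheme.Opens := W.ι ⁻¹ᵁ locP p chart a
  have hV : W.ι ''ᵁ V ≤ locP p chart a := by
    rw [Scheme.Hom.image_preimage_eq_opensRange_inf]; exact inf_le_right
  exact ⟨V, hxa, (show Γ(L.restrict W.ι, V) from AModX.res L hV s),
    (AmpleX.isFrame_restrict_iff (M := L) W.ι (V := V) _).2 (hs.res hV)⟩

set_option maxHeartbeats 1000000 in
/-- The tensor of opposite twists is trivial over a compact open, for a suitable period. -/
theorem exists_period_tensor_neg (hP : RelProj.IsRelProj 𝒮 p chart) (W : P.Opens) (hW : IsCompact (W : Set P)) :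
    ∃ d : ℕ, 0 < d ∧ ∀ (m : ℤ), (d : ℤ) ∣ m → ∀ (L : P.Modules)
      (lam₁ : ∀ (U : Y.Opens) (hU : IsAffineOpen U),
        L ⟶ (Scheme.Modules.pushforward (RelProj.emb p chart U hU)).obj (GrTwist.twist (𝒮.deg U hU) m)),
      RelProj.IsRelTwist 𝒮 p chart m L lam₁ → ∀ (L' : P.Modules)
      (lam₂ : ∀ (U : Y.Opens) (hU : IsAffineOpen U),
        L' ⟶ (Scheme.Modules.pushforward (RelProj.emb p chart U hU)).obj (GrTwist.twist (𝒮.deg U hU) (-m))),
      RelProj.IsRelTwist 𝒮 p chart (-m) L' lam₂ →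
        Nonempty (CohB1.tensorMod (L.restrict W.ι) (L'.restrict W.ι) ≅ Coh.structureModule W.toScheme) := by
  obtain ⟨T, d, hd, hdvd, hcov⟩ := exists_finite_cover (p := p) (chart := chart) hW
  refine ⟨d, hd, fun m hm L lam₁ hL L' lam₂ hL' => ?_⟩
  have hdm : ∀ a : {a : DegPos 𝒮 // a ∈ T}, (a.1.2.1.1 : ℤ) ∣ m :=
    fun a => (Int.natCast_dvd_natCast.2 (hdvd a.1 a.2)).trans hm
  choose e he hv using fun a : {a : DegPos 𝒮 // a ∈ T} => exists_frame_locP hP hL a.1 (hdm a)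
  choose e' he' hv' using fun a : {a : DegPos 𝒮 // a ∈ T} => exists_frame_locP hP hL' a.1 (dvd_neg.2 (hdm a))
  have hone : ∀ (a b : {a : DegPos 𝒮 // a ∈ T}) (V : P.Opens) (ha : V ≤ locP p chart a.1) (hb : V ≤ locP p chart b.1)
      (c c' : Γ(P, V)), AModX.res L hb (e b) = c • AModX.res L ha (e a) →
        AModX.res L' hb (e' b) = c' • AModX.res L' ha (e' a) → c * c' = 1 := by
    intro a b V ha hb c c' hc hc'
    refine AModX.eq_of_locally (M := Coh.structureModule P) _ _ fun x hx => ?_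
    obtain ⟨D, hD, ga, gb, hxD⟩ := exists_good a.1.1.2 b.1.1.2 (x := p x) (locP_le a.1 (ha hx)) (locP_le b.1 (hb hx))
    refine ⟨V ⊓ p ⁻¹ᵁ D, inf_le_left, ⟨hx, hxD⟩, ?_⟩
    show AModX.resR (inf_le_left : V ⊓ p ⁻¹ᵁ D ≤ V) (c * c') = AModX.resR (inf_le_left : V ⊓ p ⁻¹ᵁ D ≤ V) 1
    haveI : IsIso ((RelProj.emb p chart D hD).app (V ⊓ p ⁻¹ᵁ D)) :=
      (RelProj.emb p chart D hD).isIso_app _ (by rw [RelTildeX.opensRange_emb]; exact inf_le_right)
    refine (ConcreteCategory.bijective_of_isIso (C := CommRingCat) ((RelProj.emb p chart D hD).app (V ⊓ p ⁻¹ᵁ D))).1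
      (Subtype.ext (funext fun w => HomogeneousLocalization.val_injective _ ?_))
    show sc chart hD _ w = sc chart hD _ w
    have hwa : 𝒮.res a.1.1.2 hD ga.le a.1.2.2.1 ∉ w.1.asHomogeneousIdeal :=
      fun h => nonVan_locP a.1 ⟨_, pre_le hP ga a.1.1.2 hD (locP p chart a.1) (ha w.2.1)⟩ h
    have hwb : 𝒮.res b.1.1.2 hD gb.le b.1.2.2.1 ∉ w.1.asHomogeneousIdeal :=
      fun h => nonVan_locP b.1 ⟨_, pre_le hP gb b.1.1.2 hD (locP p chart b.1) (hb w.2.1)⟩ h
    have k := congrArg (fun q => GrTwist.val (V := pre p chart D hD (V ⊓ p ⁻¹ᵁ D)) ((lam₁ D hD).app _ q) w)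
      (congrArg (AModX.res L (inf_le_left : V ⊓ p ⁻¹ᵁ D ≤ V)) hc)
    have k' := congrArg (fun q => GrTwist.val (V := pre p chart D hD (V ⊓ p ⁻¹ᵁ D)) ((lam₂ D hD).app _ q) w)
      (congrArg (AModX.res L' (inf_le_left : V ⊓ p ⁻¹ᵁ D ≤ V)) hc')
    simp only [AModX.res_smul, AModX.res_res] at k k'
    rw [val_smul_sc hD (lam₁ D hD), hv b D hD gb _ _ w hwb, hv a D hD ga _ _ w hwa] at k
    rw [val_smul_sc hD (lam₂ D hD), hv' b D hD gb _ _ w hwb, hv' a D hD ga _ _ w hwa] at k'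
    have hk : _ * _ = _ * _ := congrArg₂ (· * ·) k k'
    rw [zVal_mul, Int.neg_ediv_of_dvd (hdm b), add_neg_cancel, zVal_zero, mul_mul_mul_comm, zVal_mul,
      Int.neg_ediv_of_dvd (hdm a), add_neg_cancel, zVal_zero, mul_one, ← sc_mul] at hk
    rw [map_mul]
    refine hk.symm.trans ?_
    rw [map_one]
    unfold sc
    rw [map_one]
    exact HomogeneousLocalization.val_one.symm
  let Ω : {a : DegPos 𝒮 // a ∈ T} → W.toScheme.Opens := fun a => W.ι ⁻¹ᵁ locP p chart a.1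
  have hΩ : ∀ a, W.ι ''ᵁ Ω a ≤ locP p chart a.1 := fun a => by
    rw [Scheme.Hom.image_preimage_eq_opensRange_inf]; exact inf_le_right
  let A := L.restrict W.ι
  let B := L'.restrict W.ι
  let ta : ∀ a, Γ(A, Ω a) := fun a => AModX.res L (hΩ a) (e a)
  let tb : ∀ a, Γ(B, Ω a) := fun a => AModX.res L' (hΩ a) (e' a)
  let t : ∀ a, Γ(CohB1.tensorMod A B, Ω a) := fun a => InvX.tmul (ta a) (tb a)
  have htfr : ∀ a, InvX.IsFrame (t a) := fun a => InvX.isFrame_tmul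
    ((AmpleX.isFrame_restrict_iff (M := L) W.ι (V := Ω a) _).2 ((he a).res (hΩ a)))
    ((AmpleX.isFrame_restrict_iff (M := L') W.ι (V := Ω a) _).2 ((he' a).res (hΩ a)))
  have hcov' : ∀ x : W.toScheme, ∃ a, x ∈ Ω a := fun x => by
    obtain ⟨a, ha, hxa⟩ := hcov x.1 x.2
    exact ⟨⟨a, ha⟩, hxa⟩
  have hagree : ∀ a b, AModX.res (CohB1.tensorMod A B) (inf_le_left : Ω a ⊓ Ω b ≤ Ω a) (t a) =
      AModX.res (CohB1.tensorMod A B) inf_le_right (t b) := by
    intro a b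
    have hVa : W.ι ''ᵁ (Ω a ⊓ Ω b) ≤ locP p chart a.1 := (W.ι.image_mono inf_le_left).trans (hΩ a)
    have hVb : W.ι ''ᵁ (Ω a ⊓ Ω b) ≤ locP p chart b.1 := (W.ι.image_mono inf_le_right).trans (hΩ b)
    obtain ⟨c, hc⟩ := (he a).exists_coord hVa (AModX.res L hVb (e b))
    obtain ⟨c', hc'⟩ := (he' a).exists_coord hVa (AModX.res L' hVb (e' b))
    let γ : Γ(W.toScheme, Ω a ⊓ Ω b) := (W.ι.appIso (Ω a ⊓ Ω b)).hom c
    let γ' : Γ(W.toScheme, Ω a ⊓ Ω b) := (W.ι.appIso (Ω a ⊓ Ω b)).hom c'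
    have hA : AModX.res A (inf_le_right : Ω a ⊓ Ω b ≤ Ω b) (ta b) = γ • AModX.res A inf_le_left (ta a) := by
      show AModX.res L (W.ι.image_mono inf_le_right) (AModX.res L (hΩ b) (e b)) =
        ((W.ι.appIso (Ω a ⊓ Ω b)).inv.hom ((W.ι.appIso (Ω a ⊓ Ω b)).hom c)) •
          AModX.res L (W.ι.image_mono inf_le_left) (AModX.res L (hΩ a) (e a))
      rw [Iso.hom_inv_id_apply]
      exact (AModX.res_res (M := L) _ _ (e b)).trans (hc.trans (congrArg _ (AModX.res_res (M := L) _ _ (e a)).symm))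
    have hB : AModX.res B (inf_le_right : Ω a ⊓ Ω b ≤ Ω b) (tb b) = γ' • AModX.res B inf_le_left (tb a) := by
      show AModX.res L' (W.ι.image_mono inf_le_right) (AModX.res L' (hΩ b) (e' b)) =
        ((W.ι.appIso (Ω a ⊓ Ω b)).inv.hom ((W.ι.appIso (Ω a ⊓ Ω b)).hom c')) •
          AModX.res L' (W.ι.image_mono inf_le_left) (AModX.res L' (hΩ a) (e' a))
      rw [Iso.hom_inv_id_apply]
      exact (AModX.res_res (M := L') _ _ (e' b)).trans (hc'.trans (congrArg _ (AModX.res_res (M := L') _ _ (e' a)).symm))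
    rw [InvX.res_tmul, InvX.res_tmul, hA, hB, InvX.tmul_smul_left, InvX.tmul_smul_right, ← mul_smul,
      show γ * γ' = 1 by rw [← map_mul, hone a b _ hVa hVb c c' hc hc', map_one], one_smul]
  obtain ⟨S, hS, -⟩ := AModX.existsUnique_glue (M := CohB1.tensorMod A B) (V := ⊤) Ω (fun _ => le_top)
    (fun x _ => hcov' x) t hagree
  exact InvUfdLib.nonempty_iso_of_frame
    (InvUfdLib.isFrame_of_cover Ω (fun _ => le_top) (fun x _ => hcov' x) S fun a => (hS a).symm ▸ htfr a)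

end Groth.Agent.RelTwistX
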