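import Groth.Agent.RelTwistX.Frame

/-!
# The open `X_f` and the twists
-/

noncomputable section

universe u

open CategoryTheory CategoryTheory.Limits AlgebraicGeometry TopologicalSpace Opposite
open scoped HomogeneousIdeal

set_option backward.isDefEq.respectTransparency false
set_option backward.isDefEq.respectTransparency.types false
set_option linter.style.haveILetI false
set_option linter.unusedSectionVars false

namespace Groth.Agent.RelTwistX

open Groth.Agent

variable {Y P : Scheme.{u}} {𝒮 : RelProj.QCGrAlg Y} {p : P ⟶ Y}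
  {chart : ∀ (U : Y.Opens) (hU : IsAffineOpen U), (((p ⁻¹ᵁ U : P.Opens) : Scheme.{u}) ≅ Proj (𝒮.deg U hU))}

/-- The restriction of a global section of the algebra. -/
abbrev resTop (f : 𝒮.presheaf.obj (op ⊤)) (U : Y.Opens) : 𝒮.presheaf.obj (op U) :=
  (𝒮.presheaf.map (homOfLE le_top).op).hom f

theorem exists_val_smul {n : ℤ} {U : Y.Opens} (hU : IsAffineOpen U) {L : P.Modules} (l : L ⟶ push p chart n U hU)
    {V : P.Opens} (c : Γ(P, V)) (t : Γ(L, V)) (y : pre p chart U hU V) :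
    ∃ k : GrTwist.Loc (𝒮.deg U hU) y.1,
      GrTwist.val (V := pre p chart U hU V) (l.app V (c • t)) y =
        k * GrTwist.val (V := pre p chart U hU V) (l.app V t) y := by
  rw [Scheme.Modules.Hom.app_smul]
  exact ⟨_, GrTwist.coe_smul_val n y.1 _ _⟩

variable (f : 𝒮.presheaf.obj (op ⊤)) (Xf : P.Opens)
  (hXf : ∀ (U : Y.Opens) (hU : IsAffineOpen U),
    Xf ⊓ p ⁻¹ᵁ U =
      (p ⁻¹ᵁ U).ι ''ᵁ ((chart U hU).hom ⁻¹ᵁ Proj.basicOpen (𝒮.deg U hU) (resTop f U)))

include hXf

theorem mem_pre_iff {U : Y.Opens} (hU : IsAffineOpen U) (y : ProjectiveSpectrum (𝒮.deg U hU)) :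
    (RelProj.emb p chart U hU).base y ∈ Xf ↔ resTop f U ∉ y.asHomogeneousIdeal := by
  have hyU : (RelProj.emb p chart U hU).base y ∈ p ⁻¹ᵁ U := by
    rw [← RelTildeX.opensRange_emb p chart U hU]; exact ⟨y, rfl⟩
  have hinv : (chart U hU).hom ((chart U hU).inv y) = y := by
    rw [← Scheme.Hom.comp_apply, (chart U hU).inv_hom_id]; rfl
  constructor
  · intro hy
    obtain ⟨w, hw, hwy⟩ := (hXf U hU).le ⟨hy, hyU⟩
    have : w = (chart U hU).inv y := (p ⁻¹ᵁ U).ι.isOpenEmbedding.injective hwy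
    have hw' : (chart U hU).hom w ∈ Proj.basicOpen (𝒮.deg U hU) (resTop f U) := hw
    rw [this, hinv] at hw'
    exact hw'
  · intro hy
    refine ((hXf U hU).ge ⟨(chart U hU).inv y, ?_, rfl⟩).1
    show (chart U hU).hom ((chart U hU).inv y) ∈ Proj.basicOpen (𝒮.deg U hU) (resTop f U)
    rw [hinv]
    exact hy

theorem nonVan {U : Y.Opens} (hU : IsAffineOpen U) :
    GrTwistX.NonVan (𝒜 := 𝒮.deg U hU) (resTop f U) (pre p chart U hU Xf) :=
  fun y => (mem_pre_iff f Xf hXf hU y.1).1 y.2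

variable (hP : RelProj.IsRelProj 𝒮 p chart) {d : ℕ}
  (hf : ∀ (U : Y.Opens) (hU : IsAffineOpen U), resTop f U ∈ 𝒮.deg U hU d)

include hP hf

theorem exists_frame (n : ℤ) {L : P.Modules}
    {lam' : ∀ (U : Y.Opens) (hU : IsAffineOpen U),
      L ⟶ (Scheme.Modules.pushforward (RelProj.emb p chart U hU)).obj (GrTwist.twist (𝒮.deg U hU) (n * (d : ℤ)))}
    (hL : RelProj.IsRelTwist 𝒮 p chart (n * (d : ℤ)) L lam') :
    ∃ s : Γ(L, Xf), InvX.IsFrame s := by
  let φ : ∀ U : Y.affineOpens, GrTwistX.UnitFrac (𝒜 := 𝒮.deg U.1 U.2) (n * (d : ℤ)) (pre p chart U.1 U.2 Xf) :=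
    fun U => GrTwistX.powFrac (hf U.1 U.2) SetLike.GradedOne.one_mem (zero_add d).symm n (nonVan f Xf hXf U.2)
      (fun y h => y.1.isPrime.ne_top ((Ideal.eq_top_iff_one _).mpr h))
  obtain ⟨s, hs⟩ := exists_section hP hL Xf (fun U => GrTwistX.fracSect (φ U)) fun U D g => by
    refine val_ext fun z => ?_
    refine Eq.trans ?_ (GrTwist.locMap_mk (𝒮.res U.2 D.2 g.le) (g.irr U.2 D.2) z.1 _ _).symm
    show Localization.mk _ _ = Localization.mk _ _
    have hres : 𝒮.res U.2 D.2 g.le (resTop f U.1) = resTop f D.1 := by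
      simp only [RelProj.QCGrAlg.res_apply, resTop]
      rw [← CommRingCat.comp_apply, ← Functor.map_comp]
      rfl
    simp only [φ, GrTwistX.powFrac, map_mul, map_pow, map_one, hres]
  refine ⟨s, isFrame_of_charts hL s fun U hU V hV => ?_⟩
  rw [hs ⟨U, hU⟩]
  exact GrTwistX.trivMap_bijective ((φ ⟨U, hU⟩).res (V := V) hV)

theorem nonempty_iso_restrict (n : ℤ) {L : P.Modules}
    {lam' : ∀ (U : Y.Opens) (hU : IsAffineOpen U),
      L ⟶ (Scheme.Modules.pushforward (RelProj.emb p chart U hU)).obj (GrTwist.twist (𝒮.deg U hU) (n * (d : ℤ)))}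
    (hL : RelProj.IsRelTwist 𝒮 p chart (n * (d : ℤ)) L lam') :
    Nonempty (L.restrict Xf.ι ≅ Coh.structureModule Xf.toScheme) :=
  (exists_frame f Xf hXf hP hf n hL).elim fun _ hs => InvX.nonempty_iso_of_isFrame hs

omit hP in
set_option maxHeartbeats 800000 in
theorem eq_genLocus (hgen : 𝒮.IsGenDegOne) {L : P.Modules}
    {lam' : ∀ (U : Y.Opens) (hU : IsAffineOpen U),
      L ⟶ (Scheme.Modules.pushforward (RelProj.emb p chart U hU)).obj (GrTwist.twist (𝒮.deg U hU) (d : ℤ))}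
    (hL : RelProj.IsRelTwist 𝒮 p chart (d : ℤ) L lam') (s : Coh.structureModule P ⟶ L)
    (hs : ∀ (U : Y.Opens) (hU : IsAffineOpen U) (y : Proj (𝒮.deg U hU)),
      GrTwist.val (V := RelProj.emb p chart U hU ⁻¹ᵁ ⊤) ((lam' U hU).app ⊤ (InvX.one s)) ⟨y, Set.mem_univ _⟩ =
        Localization.mk (resTop f U) 1) :
    Xf = CohB1.genLocus L s := by
  have hval : ∀ (U : Y.Opens) (hU : IsAffineOpen U) (V : P.Opens) (y : pre p chart U hU V),
      GrTwist.val ((lam' U hU).app V (AModX.res L (le_top : V ≤ ⊤) (InvX.one s))) y =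
        Localization.mk (resTop f U) 1 := by
    intro U hU V y
    rw [AModX.app_res]
    exact hs U hU y.1
  refine le_antisymm (InvX.le_genLocus s (isFrame_of_charts hL _ fun U hU => ?_)) fun x hx => ?_
  · let φ : GrTwistX.UnitFrac (𝒜 := 𝒮.deg U hU) (d : ℤ) (pre p chart U hU Xf) :=
      { i := d, j := 0, num := resTop f U, den := 1, num_mem := hf U hU, den_mem := SetLike.GradedOne.one_mem,
        deg := by simp, num_ne := nonVan f Xf hXf hU,
        den_ne := fun y h => y.1.isPrime.ne_top ((Ideal.eq_top_iff_one _).mpr h) }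
    have heq : (lam' U hU).app Xf (AModX.res L (le_top : Xf ≤ ⊤) (InvX.one s)) = GrTwistX.fracSect φ :=
      val_ext fun y => (hval U hU Xf y).trans rfl
    intro V hV
    rw [heq]
    exact GrTwistX.trivMap_bijective (φ.res (V := V) hV)
  · obtain ⟨W, hxW, hW⟩ := InvX.mem_genLocus hx
    obtain ⟨_, ⟨U, hU, rfl⟩, hxU, -⟩ := Y.isBasis_affineOpens.exists_subset_of_mem_open
      (Set.mem_univ (p x)) isOpen_univ
    have hxr : x ∈ (RelProj.emb p chart U hU).opensRange := by rw [RelTildeX.opensRange_emb]; exact hxU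
    obtain ⟨y, rfl⟩ := hxr
    obtain ⟨g, hg, hgy⟩ : ∃ g ∈ 𝒮.deg U hU 1, g ∉ y.asHomogeneousIdeal := by
      by_contra! hall
      exact y.not_irrelevant_le (show ((𝒮.deg U hU)₊).toIdeal ≤ y.asHomogeneousIdeal.toIdeal from
        RelTildeX.irrelevant_eq_span_deg_one hgen U hU ▸ Ideal.span_le.mpr hall)
    let V : P.Opens := W ⊓ RelProj.emb p chart U hU ''ᵁ Proj.basicOpen (𝒮.deg U hU) g
    have hVU : V ≤ p ⁻¹ᵁ U :=
      inf_le_right.trans ((Scheme.Hom.image_le_opensRange _ _).trans (RelTildeX.opensRange_emb p chart U hU).le)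
    have hVg : ∀ z : pre p chart U hU V, g ∉ z.1.asHomogeneousIdeal := fun z => by
      obtain ⟨z', hz', e⟩ := z.2.2
      rw [← (RelProj.emb p chart U hU).isOpenEmbedding.injective e]
      exact hz'
    let φ : GrTwistX.UnitFrac (𝒜 := 𝒮.deg U hU) (d : ℤ) (pre p chart U hU V) :=
      { i := d, j := 0, num := g ^ d, den := 1,
        num_mem := by simpa using SetLike.pow_mem_graded d hg, den_mem := SetLike.GradedOne.one_mem,
        deg := by simp, num_ne := fun z h => hVg z (z.1.isPrime.mem_of_pow_mem d h),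
        den_ne := fun z h => z.1.isPrime.ne_top ((Ideal.eq_top_iff_one _).mpr h) }
    obtain ⟨s', hs'⟩ := (hL.bijective U hU V hVU).2 (GrTwistX.fracSect φ)
    obtain ⟨c, rfl⟩ := hW.exists_coord (inf_le_left : V ≤ W) s'
    have hyV : y ∈ pre p chart U hU V := ⟨hxW, y, hgy, rfl⟩
    rw [AModX.res_res] at hs'
    have hu : IsUnit (GrTwist.val (V := pre p chart U hU V)
        ((lam' U hU).app V (c • AModX.res L (le_top : V ≤ ⊤) (InvX.one s))) ⟨y, hyV⟩) := by
      rw [hs']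
      exact GrTwistX.isUnit_frac φ ⟨y, hyV⟩
    obtain ⟨k, hk⟩ := exists_val_smul hU (lam' U hU) c (AModX.res L (le_top : V ≤ ⊤) (InvX.one s)) ⟨y, hyV⟩
    have hv : GrTwist.val (V := pre p chart U hU V)
        ((lam' U hU).app V (AModX.res L (le_top : V ≤ ⊤) (InvX.one s))) ⟨y, hyV⟩ =
        Localization.mk (resTop f U) 1 := hval U hU V ⟨y, hyV⟩
    have h3 : IsUnit (Localization.mk (resTop f U) 1 : GrTwist.Loc (𝒮.deg U hU) y) :=
      hv ▸ isUnit_of_mul_isUnit_right (hk ▸ hu)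
    rw [Localization.mk_eq_mk', IsLocalization.AtPrime.isUnit_mk'_iff] at h3
    exact (mem_pre_iff f Xf hXf hU y).2 h3

end Groth.Agent.RelTwistX
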